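import Groth.Agent.Lib.Ample.GenLocus

/-!
# Tensor powers; the definition of ampleness through powers of positive degree
-/

noncomputable section

universe u

open CategoryTheory CategoryTheory.Limits AlgebraicGeometry Opposite TopologicalSpace

namespace Groth.Agent.Lib.Ample.Pow

open TensorMod TensorMod.Basic TensorMod.Pullback GenLocus

variable {X Y : Scheme.{u}}

/-- `L^{⊗ 1} ≅ L`. -/
def powOne (L : X.Modules) : CohB1.tensorPow L 1 ≅ L := leftUnit L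

/-- Tensor powers of isomorphic modules. -/
def powIso {L M : X.Modules} (e : L ≅ M) : ∀ n : ℕ, CohB1.tensorPow L n ≅ CohB1.tensorPow M n
  | 0 => Iso.refl _
  | n + 1 => tensorIso (powIso e n) e

/-- `L^{⊗ (m + n)} ≅ L^{⊗ m} ⊗ L^{⊗ n}`. -/
def powAdd (L : X.Modules) (m : ℕ) :
    ∀ n : ℕ, CohB1.tensorPow L (m + n) ≅ CohB1.tensorMod (CohB1.tensorPow L m) (CohB1.tensorPow L n)
  | 0 => (rightUnit _).symm
  | n + 1 => tensorIso (powAdd L m n) (Iso.refl L) ≪≫ Basic.assoc _ _ _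

/-- `L^{⊗ m} ≅ L^{⊗ n}` for `m = n`. -/
def powCongr (L : X.Modules) {m n : ℕ} (h : m = n) : CohB1.tensorPow L m ≅ CohB1.tensorPow L n :=
  eqToIso (congrArg _ h)

/-- `(L^{⊗ m})^{⊗ n} ≅ L^{⊗ (m n)}`. -/
def powMul (L : X.Modules) (m : ℕ) : ∀ n : ℕ, CohB1.tensorPow (CohB1.tensorPow L m) n ≅ CohB1.tensorPow L (m * n)
  | 0 => Iso.refl _
  | n + 1 => tensorIso (powMul L m n) (Iso.refl _) ≪≫ (powAdd L (m * n) m).symm

/-- `(A ⊗ B) ⊗ (C ⊗ D) ≅ (A ⊗ C) ⊗ (B ⊗ D)`. -/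
def middleFour (A B C D : X.Modules) :
    CohB1.tensorMod (CohB1.tensorMod A B) (CohB1.tensorMod C D) ≅
      CohB1.tensorMod (CohB1.tensorMod A C) (CohB1.tensorMod B D) :=
  Basic.assoc _ _ _ ≪≫ tensorIso (Iso.refl A) ((Basic.assoc _ _ _).symm ≪≫
    tensorIso (Basic.comm B C) (Iso.refl D) ≪≫ Basic.assoc _ _ _) ≪≫ (Basic.assoc _ _ _).symm

/-- `(L ⊗ M)^{⊗ n} ≅ L^{⊗ n} ⊗ M^{⊗ n}`. -/
def powTensor (L M : X.Modules) : ∀ n : ℕ, CohB1.tensorPow (CohB1.tensorMod L M) n ≅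
    CohB1.tensorMod (CohB1.tensorPow L n) (CohB1.tensorPow M n)
  | 0 => (leftUnit _).symm
  | n + 1 => tensorIso (powTensor L M n) (Iso.refl _) ≪≫ middleFour _ _ _ _

/-- `O^{⊗ n} ≅ O`. -/
def powUnit (X : Scheme.{u}) : ∀ n : ℕ, CohB1.tensorPow (Coh.structureModule X) n ≅ Coh.structureModule X
  | 0 => Iso.refl _
  | n + 1 => tensorIso (powUnit X n) (Iso.refl _) ≪≫ rightUnit _

/-- Tensor powers commute with pullback. -/
def pullbackPow (f : X ⟶ Y) (L : Y.Modules) : ∀ n : ℕ,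
    (pb f).obj (CohB1.tensorPow L n) ≅ CohB1.tensorPow ((pb f).obj L) n
  | 0 => PicLoc.pullbackStructureIso f
  | n + 1 => pullbackTensorIso f _ _ ≪≫ tensorIso (pullbackPow f L n) (Iso.refl _)

/-- Tensor powers commute with restriction. -/
def restrictPow (f : X ⟶ Y) [IsOpenImmersion f] (L : Y.Modules) (n : ℕ) :
    (CohB1.tensorPow L n).restrict f ≅ CohB1.tensorPow (L.restrict f) n :=
  (Scheme.Modules.restrictFunctorIsoPullback f).app _ ≪≫ pullbackPow f L n ≪≫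
    powIso ((Scheme.Modules.restrictFunctorIsoPullback f).app L).symm n

/-- Some positive power of `L` has a section whose locus is an affine neighbourhood of `x`. -/
def AffineAt (L : X.Modules) (x : X) : Prop :=
  ∃ n : ℕ, 0 < n ∧ ∃ s : Coh.structureModule X ⟶ CohB1.tensorPow L n,
    x ∈ CohB1.genLocus _ s ∧ IsAffineOpen (CohB1.genLocus _ s)

theorem AffineAt.mk {L M : X.Modules} {x : X} {n : ℕ} (hn : 0 < n) (e : M ≅ CohB1.tensorPow L n)
    (s : Coh.structureModule X ⟶ M) (hx : x ∈ CohB1.genLocus _ s) (h : IsAffineOpen (CohB1.genLocus _ s)) :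
    AffineAt L x :=
  ⟨n, hn, s ≫ e.hom, by rwa [genLocus_comp_iso], by rwa [genLocus_comp_iso]⟩

theorem isAmple_iff {L : X.Modules} :
    CohB1.IsAmple L ↔ PicF.IsInvertible L ∧ CompactSpace X ∧ ∀ x : X, AffineAt L x := by
  refine and_congr_right' (and_congr_right' (forall_congr' fun x => ?_))
  constructor
  · rintro ⟨n, s, hx, h⟩
    exact ⟨n + 1, Nat.succ_pos n, s, hx, h⟩
  · rintro ⟨n, hn, s, hx, h⟩
    obtain ⟨m, rfl⟩ : ∃ m, n = m + 1 := ⟨n - 1, by omega⟩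
    exact ⟨m, s, hx, h⟩

theorem isAmple_of_iso {L M : X.Modules} (e : L ≅ M) (h : CohB1.IsAmple L) : CohB1.IsAmple M := by
  obtain ⟨hi, hc, hx⟩ := isAmple_iff.1 h
  refine isAmple_iff.2 ⟨Invertible.isInvertible_of_iso e hi, hc, fun x => ?_⟩
  obtain ⟨n, hn, s, hs, ha⟩ := hx x
  exact .mk hn (powIso e n) s hs ha

theorem isAmple_tensorPow_iff {L : X.Modules} (hL : PicF.IsInvertible L) {n : ℕ} (hn : 0 < n) :
    CohB1.IsAmple L ↔ CohB1.IsAmple (CohB1.tensorPow L n) := by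
  rw [isAmple_iff, isAmple_iff]
  constructor
  · rintro ⟨-, hc, hx⟩
    refine ⟨Invertible.isInvertible_tensorPow hL n, hc, fun x => ?_⟩
    obtain ⟨m, hm, s, hs, ha⟩ := hx x
    refine .mk hm (powMul L m n ≪≫ powCongr L (Nat.mul_comm m n) ≪≫ (powMul L n m).symm)
      (SecTwist.powHom s n) ?_ ?_
    · rwa [genLocus_powHom (Invertible.isInvertible_tensorPow hL m) s n hn]
    · rwa [genLocus_powHom (Invertible.isInvertible_tensorPow hL m) s n hn]
  · rintro ⟨-, hc, hx⟩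
    refine ⟨hL, hc, fun x => ?_⟩
    obtain ⟨m, hm, s, hs, ha⟩ := hx x
    exact .mk (Nat.mul_pos hn hm) (powMul L n m) s hs ha

end Groth.Agent.Lib.Ample.Pow
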