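import Groth.Agent.Lib.Ample.Basis
import Groth.Agent.Lib.CohBasics.Closure
import Groth.Agent.Lib.Modules.Free
import Groth.Prelude.Def_Curv2

/-!
# Global generation of twists of coherent modules by an ample module
-/

noncomputable section

universe u

open CategoryTheory CategoryTheory.Limits AlgebraicGeometry Opposite TopologicalSpace

namespace Groth.Agent.Lib.Ample.GG

open TensorMod TensorMod.Basic TensorMod.Free TensorMod.Dual TensorMod.Gen TensorMod.LocIso TensorMod.Pullback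
  TensorMod.HomGlue GenLocus Pow Extend Basis Modules.StalkModule

variable {X : Scheme.{u}} {L M N H : X.Modules}

/-- The germ of a section. -/
abbrev gm {U : X.Opens} {x : X} (hx : x ∈ U) (t : Γ(M, U)) : M.presheaf.stalk x :=
  M.presheaf.germ U x hx t

theorem gm_rs {U V : X.Opens} (h : V ≤ U) {x : X} (hx : x ∈ V) (t : Γ(M, U)) :
    gm hx (rs M h t) = gm (h hx) t :=
  TopCat.Presheaf.germ_res_apply _ _ _ _ _

theorem gm_smul {U : X.Opens} {x : X} (hx : x ∈ U) (r : Γ(X, U)) (t : Γ(M, U)) :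
    gm hx (r • t) = X.presheaf.germ U x hx r • gm hx t :=
  germ_smul hx r t

/-- Every point lies in the whole space. -/
theorem memTop (x : X) : x ∈ (⊤ : X.Opens) := trivial

/-- Global sections of `M` generate the stalk at `x`. -/
def GenAt (M : X.Modules) (x : X) : Prop :=
  Submodule.span (X.presheaf.stalk x)
    (Set.range fun t : Γ(M, ⊤) => gm (memTop x) t) = ⊤

theorem GenAt.of_gens {x : X} {U : X.Opens} (hx : x ∈ U) {ι : Type*} (t : ι → Γ(M, U))
    (h : Submodule.span (X.presheaf.stalk x) (Set.range fun i => gm hx (t i)) = ⊤)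
    (g : ι → Γ(M, ⊤)) (hg : ∀ i, rs M le_top (g i) = t i) : GenAt M x := by
  refine top_le_iff.1 (h ▸ Submodule.span_le.2 ?_)
  rintro _ ⟨i, rfl⟩
  refine Submodule.subset_span ⟨g i, ?_⟩
  change gm (memTop x) (g i) = gm hx (t i)
  rw [← hg i]
  exact (gm_rs le_top hx (g i)).symm

theorem GenAt.of_iso (e : M ≅ N) {x : X} (h : GenAt M x) : GenAt N x := by
  refine eq_top_iff.2 fun v _ => ?_
  obtain ⟨w, rfl⟩ : ∃ w, stalkMapₗ e.hom x w = v :=
    ⟨stalkMapₗ e.inv x v, by rw [← LinearMap.comp_apply, ← stalkMapₗ_comp, e.inv_hom_id, stalkMapₗ_id]; rfl⟩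
  have hw : w ∈ Submodule.span (X.presheaf.stalk x) (Set.range fun t : Γ(M, ⊤) => gm (memTop x) t) :=
    h ▸ trivial
  have := Submodule.apply_mem_span_image_of_mem_span (stalkMapₗ e.hom x) hw
  refine Submodule.span_mono ?_ this
  rintro _ ⟨_, ⟨t, rfl⟩, rfl⟩
  exact ⟨e.hom.app ⊤ t, (stalkMapₗ_germ e.hom (memTop x) t).symm⟩

/-- Epimorphisms from free modules, from generation of all stalks. -/
theorem isGloballyGenerated_of_genAt (h : ∀ x : X, GenAt M x) : Curv2.IsGloballyGenerated M := by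
  let p : (SheafOfModules.free (Γ(M, ⊤) : Type u) : X.Modules) ⟶ M :=
    Sigma.desc fun t : Γ(M, ⊤) => Modules.Free.unitHom M t
  refine ⟨Γ(M, ⊤), p, (Modules.Stalk.epi_iff_stalk_surjective p).2 fun x (v : M.presheaf.stalk x) => ?_⟩
  suffices hr : Submodule.span (X.presheaf.stalk x) (Set.range fun t : Γ(M, ⊤) => gm (memTop x) t) ≤
      LinearMap.range (stalkMapₗ p x) by
    obtain ⟨w, hw⟩ := hr ((h x).ge (Submodule.mem_top (x := v)))
    exact ⟨w, hw⟩
  rw [Submodule.span_le]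
  rintro _ ⟨t, rfl⟩
  let ι' : Coh.structureModule X ⟶ (SheafOfModules.free (Γ(M, ⊤) : Type u) : X.Modules) :=
    Sigma.ι (fun _ : Γ(M, ⊤) => Coh.structureModule X) t
  refine ⟨gm (memTop x) (ι'.app ⊤ (one X ⊤)), ?_⟩
  refine (stalkMapₗ_germ p (memTop x) _).trans ?_
  have hp : ι' ≫ p = Modules.Free.unitHom M t := Sigma.ι_desc _ _
  exact congrArg (gm (memTop x)) ((congrArg (fun φ => φ.app ⊤ (one X ⊤)) hp).trans
    (Modules.Free.unitHom_app_one M t))

/-- Membership is propagated from generators of one factor by linearity. -/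
theorem mem_of_span {W₀ : X.Opens} {x : X} (hx₀ : x ∈ W₀) (S : Set (M.presheaf.stalk x))
    (hS : Submodule.span (X.presheaf.stalk x) S = ⊤) (P : Submodule (X.presheaf.stalk x) (H.presheaf.stalk x))
    (Φ : ∀ W, W ≤ W₀ → Γ(M, W) → Γ(H, W))
    (hres : ∀ W V (hW : W ≤ W₀) (hV : V ≤ W) a, rs H hV (Φ W hW a) = Φ V (hV.trans hW) (rs M hV a))
    (hadd : ∀ W (hW : W ≤ W₀) a b, Φ W hW (a + b) = Φ W hW a + Φ W hW b)
    (hsmul : ∀ W (hW : W ≤ W₀) (r : Γ(X, W)) a, Φ W hW (r • a) = r • Φ W hW a)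
    (hmem : ∀ v ∈ S, ∃ (W : X.Opens) (hW : W ≤ W₀) (hx : x ∈ W) (a : Γ(M, W)),
      gm hx a = v ∧ gm hx (Φ W hW a) ∈ P)
    {W : X.Opens} (hW : W ≤ W₀) (hx : x ∈ W) (a : Γ(M, W)) : gm hx (Φ W hW a) ∈ P := by
  have hcongr : ∀ (W W' : X.Opens) (hW : W ≤ W₀) (hW' : W' ≤ W₀) (hx : x ∈ W) (hx' : x ∈ W') a a',
      gm hx a = gm hx' a' → gm hx (Φ W hW a) = gm hx' (Φ W' hW' a') := by
    intro W W' hW hW' hx hx' a a' e
    obtain ⟨V, hxV, i, j, e'⟩ := TopCat.Presheaf.germ_eq M.presheaf x hx hx' a a' e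
    rw [← gm_rs i.le hxV, ← gm_rs j.le hxV, hres, hres]
    exact congrArg (fun z => gm hxV (Φ V _ z)) e'
  suffices key : ∀ v ∈ Submodule.span (X.presheaf.stalk x) S, ∃ (W : X.Opens) (hW : W ≤ W₀) (hx : x ∈ W)
      (a : Γ(M, W)), gm hx a = v ∧ gm hx (Φ W hW a) ∈ P by
    obtain ⟨W', hW', hx', a', e, hmem'⟩ := key (gm hx a) (hS ▸ trivial)
    rwa [hcongr W W' hW hW' hx hx' a a' e.symm]
  intro v hv
  induction hv using Submodule.span_induction with
  | mem v hv => exact hmem v hv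
  | zero =>
    refine ⟨W₀, le_rfl, hx₀, 0, map_zero _, ?_⟩
    have h0 : Φ W₀ le_rfl 0 = 0 := by simpa using hadd W₀ le_rfl 0 0
    rw [h0, gm, map_zero]
    exact P.zero_mem
  | add v w _ _ hv hw =>
    obtain ⟨W₁, hW₁, hx₁, a, rfl, ha⟩ := hv
    obtain ⟨W₂, hW₂, hx₂, b, rfl, hb⟩ := hw
    refine ⟨W₁ ⊓ W₂, inf_le_left.trans hW₁, ⟨hx₁, hx₂⟩, rs M inf_le_left a + rs M inf_le_right b, ?_, ?_⟩
    · rw [gm, map_add, ← gm, ← gm, gm_rs, gm_rs]
    · rw [hadd, gm, map_add]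
      refine P.add_mem ?_ ?_
      · rw [← hres W₁ _ hW₁, ← gm, gm_rs]; exact ha
      · rw [← hres W₂ _ hW₂, ← gm, gm_rs]; exact hb
  | smul c v _ hv =>
    obtain ⟨W₁, hW₁, hx₁, a, rfl, ha⟩ := hv
    obtain ⟨W₂, hx₂, r, rfl⟩ := TopCat.Presheaf.exists_germ_eq X.presheaf c
    refine ⟨W₁ ⊓ W₂, inf_le_left.trans hW₁, ⟨hx₁, hx₂⟩, rf (inf_le_right : W₁ ⊓ W₂ ≤ W₂) r • rs M (inf_le_left : W₁ ⊓ W₂ ≤ W₁) a, ?_, ?_⟩
    · rw [gm_smul, gm_rs, TopCat.Presheaf.germ_res_apply]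
    · rw [hsmul, gm_smul, ← hres W₁ _ hW₁, gm_rs]
      exact P.smul_mem _ ha

/-- Germs of pure tensors generate the stalk of a tensor product. -/
theorem mem_of_tmul {x : X} (P : Submodule (X.presheaf.stalk x) ((CohB1.tensorMod M N).presheaf.stalk x))
    (h : ∀ (W : X.Opens) (hx : x ∈ W) (a : Γ(M, W)) (b : Γ(N, W)),
      gm hx (pairM (𝟙 (CohB1.tensorMod M N)) a b) ∈ P) : P = ⊤ := by
  refine eq_top_iff.2 fun z _ => ?_
  obtain ⟨W, hxW, c, rfl⟩ := TopCat.Presheaf.exists_germ_eq (CohB1.tensorMod M N).presheaf z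
  obtain ⟨-, hsurj⟩ := isLocBij_unit (CohB1.tensorPre M N)
  obtain ⟨V, i, ⟨t, ht⟩, hxV⟩ := hsurj.imageSieve_mem c x hxW
  let Φ : (CohB1.tensorPre M N).obj (op V) →+ Γ(CohB1.tensorMod M N, V) :=
    ((SecTwist.toTensor M N).app (op V)).hom.toAddMonoidHom
  change gm hxW c ∈ P
  rw [← gm_rs i.le hxV c, show rs _ i.le c = Φ t from ht.symm]
  clear ht
  induction t using TensorProduct.induction_on with
  | zero =>
    refine (congrArg (fun z => gm hxV z) (map_zero Φ)).trans (map_zero _) ▸ P.zero_mem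
  | tmul a b => exact h V hxV a b
  | add p q hp hq =>
    exact (congrArg (fun z => gm hxV z) (map_add Φ p q)).trans (map_add _ _ _) ▸ P.add_mem hp hq

theorem rs_pairM {U V : X.Opens} (h : V ≤ U) (a : Γ(M, U)) (b : Γ(N, U)) :
    rs (CohB1.tensorMod M N) h (pairM (𝟙 _) a b) = pairM (𝟙 _) (rs M h a) (rs N h b) :=
  rs_tmul h a b

theorem GenAt.tensor {x : X} (hM : GenAt M x) (hN : GenAt N x) : GenAt (CohB1.tensorMod M N) x := by
  refine mem_of_tmul _ fun W hxW a b => ?_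
  refine mem_of_span (M := M) hxW _ hM _ (fun W' hW' a' => pairM (𝟙 _) a' (rs N hW' b))
    (fun W' V hW' hV a' => by rw [rs_pairM, rs_rs]) (fun W' hW' a' b' => pairM_add_left _ _ _ _)
    (fun W' hW' r a' => pairM_smul_left _ _ _ _) ?_ le_rfl hxW a |> fun h => by simpa only [rs_self] using h
  rintro _ ⟨t, rfl⟩
  refine ⟨W, le_rfl, hxW, rs M le_top t, gm_rs le_top hxW t, ?_⟩
  refine mem_of_span (M := N) hxW _ hN _ (fun W' hW' b' => pairM (𝟙 _) (rs M le_top t) b')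
    (fun W' V hW' hV b' => by rw [rs_pairM, rs_rs]) (fun W' hW' a' b' => pairM_add_right _ _ _ _)
    (fun W' hW' r b' => pairM_smul_right _ _ _ _) ?_ le_rfl hxW (rs N le_rfl b)
  rintro _ ⟨t', rfl⟩
  refine ⟨W, le_rfl, hxW, rs N le_top t', gm_rs le_top hxW t', Submodule.subset_span ⟨pairM (𝟙 _) t t', ?_⟩⟩
  change gm (memTop x) (pairM (𝟙 _) t t') = gm hxW _
  rw [← gm_rs (le_top : W ≤ ⊤) hxW, rs_pairM]

theorem genAt_of_mem_genLocus (s : Coh.structureModule X ⟶ L) {x : X} (hx : x ∈ CohB1.genLocus L s) :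
    GenAt L x := by
  refine GenAt.of_gens hx (fun _ : Unit => sv s (CohB1.genLocus L s)) ?_ (fun _ => sv s ⊤) fun _ => rs_sv s le_top
  refine eq_top_iff.2 fun v _ => ?_
  obtain ⟨W, hxW, c, rfl⟩ := TopCat.Presheaf.exists_germ_eq L.presheaf v
  obtain ⟨a, ha⟩ := exists_coord ((isGen_genLocus s).res (inf_le_left : CohB1.genLocus L s ⊓ W ≤ _))
    (rs L inf_le_right c)
  have h1 : gm (⟨hx, hxW⟩ : x ∈ CohB1.genLocus L s ⊓ W) (rs L inf_le_right c) = gm hxW c := gm_rs _ _ _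
  change gm hxW c ∈ _
  rw [← h1, ha, gm_smul, gm_rs]
  exact Submodule.smul_mem _ _ (Submodule.subset_span ⟨(), rfl⟩)

theorem exists_genLocus_of_genAt (hL : PicF.IsInvertible L) {x : X} (h : GenAt L x) :
    ∃ s : Coh.structureModule X ⟶ L, x ∈ CohB1.genLocus L s := by
  by_contra hcon
  push Not at hcon
  obtain ⟨U, e, hxU, he⟩ := isInvertible_iff.1 hL x
  have hle : Submodule.span (X.presheaf.stalk x) (Set.range fun t : Γ(L, ⊤) => gm (memTop x) t) ≤
      Submodule.map (LinearMap.toSpanSingleton _ _ (gm hxU e)) (IsLocalRing.maximalIdeal (X.presheaf.stalk x)) := by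
    rw [Submodule.span_le]
    rintro _ ⟨t, rfl⟩
    obtain ⟨a, ha⟩ := exists_coord he (rs L (le_top : U ≤ ⊤) t)
    obtain ⟨s, hs⟩ := exists_hom_of_sec t
    have hb := genLocus_inf_eq he s (show sv s U = a • e by rw [← rs_sv s (le_top : U ≤ ⊤), hs, ha])
    refine ⟨X.presheaf.germ U x hxU a, fun hu => hcon s (hb.ge ((Scheme.mem_basicOpen _ _ x hxU).2 hu)).1, ?_⟩
    rw [LinearMap.toSpanSingleton_apply, ← gm_smul, ← ha, gm_rs]
  obtain ⟨c, hc, hce⟩ := hle (h.ge (Submodule.mem_top : gm hxU e ∈ ⊤))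
  rw [LinearMap.toSpanSingleton_apply] at hce
  have h1c : IsUnit (1 - c) := IsLocalRing.isUnit_one_sub_self_of_mem_nonunits c hc
  have hzero : gm hxU e = 0 := (IsUnit.smul_eq_zero h1c).1 (by rw [sub_smul, one_smul, hce, sub_self])
  have h0 : gm hxU (0 : Γ(L, U)) = 0 := map_zero _
  obtain ⟨V, hxV, i, j, e'⟩ := TopCat.Presheaf.germ_eq L.presheaf x hxU hxU e 0 (hzero.trans h0.symm)
  have h2 : (fun a : Γ(X, V) => a • rs L i.le e) 1 = (fun a : Γ(X, V) => a • rs L i.le e) 0 := by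
    simp only [zero_smul, one_smul]
    exact e'.trans (map_zero _)
  have h3 : IsUnit (X.presheaf.germ V x hxV 0) := by
    rw [← (he V i.le).1 h2, map_one]; exact isUnit_one
  rw [map_zero] at h3
  exact zero_ne_one (isUnit_zero_iff.1 h3)

theorem isCoh_of_isInvertible (hL : PicF.IsInvertible L) : Coh.IsCoh L := by
  haveI := QCohInv.isQCoh_of_isInvertible hL
  refine ⟨‹_›, CohBasics.Affine.isFiniteType_of_finite_sections fun x => ?_⟩
  obtain ⟨U, e, hx, he⟩ := isInvertible_iff.1 hL x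
  obtain ⟨V, hV, hxV, hle⟩ := exists_isAffineOpen_mem_and_subset (U := U) hx
  refine ⟨V, hV, hxV, ⟨⟨{rs L hle e}, eq_top_iff.2 fun m _ => ?_⟩⟩⟩
  obtain ⟨a, rfl⟩ := exists_coord (he.res hle) m
  rw [Finset.coe_singleton]
  exact Submodule.smul_mem _ a (Submodule.subset_span rfl)

/-- One power generates on an affine locus, hence so do all larger ones. -/
theorem eventually_genAt [CompactSpace X] [QuasiSeparatedSpace X] (hM : PicF.IsInvertible M) (F : X.Modules)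
    (hF : Coh.IsCoh F) (s : Coh.structureModule X ⟶ M) (hs : IsAffineOpen (CohB1.genLocus M s)) :
    ∀ᶠ n in Filter.atTop, ∀ x ∈ CohB1.genLocus M s, GenAt (CohB1.tensorMod F (CohB1.tensorPow M n)) x := by
  haveI := hF.1
  haveI := CohBasics.Closure.finite_sections hF hs
  obtain ⟨k, t, ht⟩ := Module.Finite.exists_fin (R := Γ(X, CohB1.genLocus M s)) (M := Γ(F, CohB1.genLocus M s))
  refine (Filter.eventually_all.2 fun i => eventually_extension (F := F) hM s (t i)).mono fun n hn x hx => ?_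
  choose t' ht' using hn
  refine GenAt.of_gens hx (fun i => tw s n (t i)) ?_ t' ht'
  refine mem_of_tmul _ fun W hxW a b => ?_
  let G := CohB1.genLocus M s
  have hgen : ∀ V (hV : V ≤ G), IsGen (CohB1.tensorPow M n) V (powSec (sv s V) n) := fun V hV => by
    rw [← rs_sv s hV]; exact isGen_powSec ((isGen_genLocus s).res hV) n
  have hxV : x ∈ W ⊓ G := ⟨hxW, hx⟩
  obtain ⟨c, hc⟩ := exists_coord (hgen (W ⊓ G) inf_le_right) (rs _ (inf_le_left : W ⊓ G ≤ W) b)
  rw [← gm_rs (inf_le_left : W ⊓ G ≤ W) hxV, rs_pairM, hc, pairM_smul_right, gm_smul]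
  refine Submodule.smul_mem _ _ ?_
  have hkey := mem_of_span (M := F) hxV _ (CohBasics.Affine.germ_span_eq_top hs (Set.range t) ht hx)
    (Submodule.span (X.presheaf.stalk x) (Set.range fun i => gm hx (tw s n (t i))))
    (fun V _ a' => pairM (𝟙 (CohB1.tensorMod F (CohB1.tensorPow M n))) a' (powSec (sv s V) n))
    (fun V V' hV hV' a' => by rw [rs_pairM, rs_powSec, rs_sv]) (fun V hV a' b' => pairM_add_left _ _ _ _)
    (fun V hV r a' => pairM_smul_left _ _ _ _) ?_ le_rfl hxV (rs F inf_le_left a)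
  · exact hkey
  rintro _ ⟨_, ⟨i, rfl⟩, rfl⟩
  refine ⟨W ⊓ G, le_rfl, hxV, rs F inf_le_right (t i), gm_rs _ _ _, Submodule.subset_span ⟨i, ?_⟩⟩
  have h2 : tw s n (t i) = pairM (𝟙 _) (t i) (powSec (sv s G) n) := by
    rw [twist_eq (a := 1) (e := sv s G) (one_smul _ _).symm, one_pow, one_smul]; rfl
  change gm hx (tw s n (t i)) = _
  rw [← gm_rs (inf_le_right : W ⊓ G ≤ G) hxV, h2, rs_pairM, rs_powSec, rs_sv]

/-- A single power of `L` with sections having affine loci covering `X`. -/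
theorem exists_common_pow (hL : CohB1.IsAmple L) :
    ∃ m : ℕ, 0 < m ∧ ∃ (N : ℕ) (s : Fin N → (Coh.structureModule X ⟶ CohB1.tensorPow L m)),
      (∀ i, IsAffineOpen (CohB1.genLocus _ (s i))) ∧ ∀ x, ∃ i, x ∈ CohB1.genLocus _ (s i) := by
  classical
  obtain ⟨hi, hc, hx⟩ := isAmple_iff.1 hL
  choose n hn s hxs hs using hx
  obtain ⟨t, ht⟩ := isCompact_univ.elim_finite_subcover (fun x => (CohB1.genLocus _ (s x) : Set X))
    (fun x => (CohB1.genLocus _ (s x)).isOpen) fun x _ => Set.mem_iUnion.2 ⟨x, hxs x⟩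
  let y : Fin t.card → X := fun i => (t.equivFin.symm i : X)
  let K := ∏ i, n (y i)
  let k : Fin t.card → ℕ := fun i => ∏ j ∈ Finset.univ.erase i, n (y j)
  have hnk : ∀ i, n (y i) * k i = K := fun i =>
    Finset.mul_prod_erase _ (fun j => n (y j)) (Finset.mem_univ i)
  refine ⟨K, Finset.prod_pos fun i _ => hn _, t.card,
    fun i => SecTwist.powHom (s (y i)) (k i) ≫ (powMul L (n (y i)) (k i) ≪≫ powCongr L (hnk i)).hom, ?_⟩
  have hloc : ∀ i, CohB1.genLocus _ (SecTwist.powHom (s (y i)) (k i) ≫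
      (powMul L (n (y i)) (k i) ≪≫ powCongr L (hnk i)).hom) = CohB1.genLocus _ (s (y i)) := fun i => by
    rw [genLocus_comp_iso, genLocus_powHom (Invertible.isInvertible_tensorPow hi _) _ _
      (Finset.prod_pos fun w _ => hn _)]
  refine ⟨fun i => hloc i ▸ hs _, fun x => ?_⟩
  obtain ⟨z, hz, hxz⟩ := Set.mem_iUnion₂.1 (ht (Set.mem_univ x))
  refine ⟨t.equivFin ⟨z, hz⟩, ?_⟩
  rw [hloc]
  have e : y (t.equivFin ⟨z, hz⟩) = z := congrArg Subtype.val (t.equivFin.symm_apply_apply ⟨z, hz⟩)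
  rw [e]
  exact hxz

theorem eventually_genAt_tensorPow_mul [QuasiSeparatedSpace X] (hL : PicF.IsInvertible L) [CompactSpace X] {m N : ℕ}
    (s : Fin N → (Coh.structureModule X ⟶ CohB1.tensorPow L m)) (hs : ∀ i, IsAffineOpen (CohB1.genLocus _ (s i)))
    (hcov : ∀ x, ∃ i, x ∈ CohB1.genLocus _ (s i)) (F : X.Modules) (hF : Coh.IsCoh F) :
    ∀ᶠ n in Filter.atTop, ∀ x, GenAt (CohB1.tensorMod F (CohB1.tensorPow (CohB1.tensorPow L m) n)) x := by
  refine (Filter.eventually_all.2 fun i =>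
    eventually_genAt (Invertible.isInvertible_tensorPow hL m) F hF (s i) (hs i)).mono fun n hn x => ?_
  obtain ⟨i, hi⟩ := hcov x
  exact hn i x hi

/-- Twists of a coherent module by large powers of an ample module are generated by global sections. -/
theorem eventually_genAt_twist [QuasiSeparatedSpace X] (hL : CohB1.IsAmple L) (F : X.Modules) (hF : Coh.IsCoh F) :
    ∃ n₀ : ℕ, ∀ n, n₀ ≤ n → ∀ x, GenAt (CohB1.tensorMod F (CohB1.tensorPow L n)) x := by
  haveI := (isAmple_iff.1 hL).2.1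
  have hi := (isAmple_iff.1 hL).1
  obtain ⟨m, hm, N, s, hs, hcov⟩ := exists_common_pow hL
  obtain ⟨a, ha⟩ := Filter.eventually_atTop.1 (eventually_genAt_tensorPow_mul hi s hs hcov F hF)
  obtain ⟨b, hb⟩ := Filter.eventually_atTop.1 (Filter.eventually_all.2 fun r : Fin m =>
    eventually_genAt_tensorPow_mul hi s hs hcov _
      (isCoh_of_isInvertible (Invertible.isInvertible_tensorPow hi r)))
  refine ⟨m * a + m * (b + 1), fun n hn x => ?_⟩
  obtain ⟨k, rfl⟩ : ∃ k, n = m * a + k := ⟨n - m * a, by omega⟩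
  have hkm : b ≤ k / m := (Nat.le_div_iff_mul_le hm).2 (by rw [mul_comm]; nlinarith)
  have hk : GenAt (CohB1.tensorPow L k) x :=
    (hb (k / m) hkm ⟨k % m, Nat.mod_lt k hm⟩ x).of_iso
      (tensorIso (Iso.refl _) (powMul L m (k / m)) ≪≫ (powAdd L (k % m) _).symm ≪≫
        powCongr L (Nat.mod_add_div k m))
  exact ((ha a le_rfl x).tensor hk).of_iso (Basic.assoc _ _ _ ≪≫
    tensorIso (Iso.refl F) (tensorIso (powMul L m a) (Iso.refl _) ≪≫ (powAdd L _ _).symm))

theorem exists_isAmple_isGloballyGenerated [QuasiSeparatedSpace X] (hL : CohB1.IsAmple L) {L' : X.Modules}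
    (hL' : PicF.IsInvertible L') :
    ∃ n₀ : ℕ, 0 < n₀ ∧ ∀ n, n₀ ≤ n → CohB1.IsAmple (CohB1.tensorMod (CohB1.tensorPow L n) L') ∧
      Curv2.IsGloballyGenerated (CohB1.tensorMod (CohB1.tensorPow L n) L') := by
  obtain ⟨hi, -, -⟩ := isAmple_iff.1 hL
  obtain ⟨n₀, hn₀⟩ := eventually_genAt_twist hL L' (isCoh_of_isInvertible hL')
  have hg : ∀ n, n₀ ≤ n → ∀ x, GenAt (CohB1.tensorMod (CohB1.tensorPow L n) L') x := fun n hn x =>
    (hn₀ n hn x).of_iso (Basic.comm _ _)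
  refine ⟨n₀ + 1, n₀.succ_pos, fun n hn => ⟨?_, isGloballyGenerated_of_genAt (hg n (by omega))⟩⟩
  obtain ⟨k, rfl⟩ : ∃ k, n = k + 1 := ⟨n - 1, by omega⟩
  have hinv := Invertible.isInvertible_tensorMod (Invertible.isInvertible_tensorPow hi k) hL'
  refine isAmple_of_iso ((Basic.assoc _ _ _).symm ≪≫ tensorIso (Basic.comm _ _) (Iso.refl _))
    (isAmple_tensor hL hinv fun x => ?_)
  obtain ⟨s, hs⟩ := exists_genLocus_of_genAt hinv (hg k (by omega) x)
  exact ⟨1, one_pos, s ≫ (powOne _).inv, by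
    rw [show (powOne (CohB1.tensorMod (CohB1.tensorPow L k) L')).inv = (powOne _).symm.hom from rfl,
      genLocus_comp_iso]
    exact hs⟩

end Groth.Agent.Lib.Ample.GG
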