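import Groth.Agent.Lib.Ample.Restrict

/-!
# Relative ampleness
-/

noncomputable section

universe u

open CategoryTheory CategoryTheory.Limits AlgebraicGeometry Opposite TopologicalSpace

namespace Groth.Agent.Lib.Ample.RelAmple

open TensorMod TensorMod.Basic TensorMod.Dual TensorMod.Gen TensorMod.Pullback GenLocus Pow Extend Basis Pullback
  Restrict

variable {X Y X' Z : Scheme.{u}} {L : X.Modules}

/-- Ampleness of the pull-back to an open. -/
abbrev AmpleOn (L : X.Modules) (U : X.Opens) : Prop := CohB1.IsAmple ((pb U.ι).obj L)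

theorem isRelAmple_iff (f : X ⟶ Y) :
    _root_.RelAmple.IsRelAmple f L ↔ QuasiCompact f ∧ ∀ V : Y.Opens, IsAffineOpen V → AmpleOn L (f ⁻¹ᵁ V) :=
  and_congr_right' ⟨fun h V hV => (isAmple_restrict_iff_pb _).1 (h ⟨V, hV⟩),
    fun h V => (isAmple_restrict_iff_pb _).2 (h V.1 V.2)⟩

theorem isInvertible_of_isRelAmple {f : X ⟶ Y} (h : _root_.RelAmple.IsRelAmple f L) : PicF.IsInvertible L := by
  have hcov : ⨆ V : Y.affineOpens, f ⁻¹ᵁ V.1 = ⊤ := top_le_iff.1 fun x _ => by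
    obtain ⟨V, hV, hx, -⟩ := exists_isAffineOpen_mem_and_subset (X := Y) (x := f x) (U := ⊤) trivial
    exact Opens.mem_iSup.2 ⟨⟨V, hV⟩, hx⟩
  exact isInvertible_of_isInvertible_pb _ hcov fun V => (((isRelAmple_iff f).1 h).2 V.1 V.2).1

/-- Quasi-compact immersions are quasi-affine. -/
theorem isQuasiAffine_of_isImmersion (g : X ⟶ Y) [IsImmersion g] [QuasiCompact g] : Mor2.IsQuasiAffine g := by
  refine ⟨inferInstance, fun V hV => ?_⟩
  haveI : IsAffine (V : Scheme.{u}) := hV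
  haveI : CompactSpace (g ⁻¹ᵁ V : Scheme.{u}) := QuasiCompact.compactSpace_of_compactSpace (g ∣_ V)
  haveI : IsImmersion (g ∣_ V) := MorphismProperty.of_isPullback (P := @IsImmersion) (isPullback_morphismRestrict g V).flip inferInstance
  exact Scheme.IsQuasiAffine.of_isImmersion (g ∣_ V)

theorem isQuasiAffine_morphismRestrict (g : X ⟶ Y) (hg : Mor2.IsQuasiAffine g) (U : Y.Opens) :
    Mor2.IsQuasiAffine (g ∣_ U) := by
  haveI := hg.1
  haveI : QuasiCompact (g ∣_ U) :=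
    MorphismProperty.of_isPullback (P := @QuasiCompact) (isPullback_morphismRestrict g U).flip inferInstance
  refine ⟨inferInstance, fun W hW => ?_⟩
  haveI := hg.2 _ (hW.image_of_isOpenImmersion U.ι)
  haveI : CompactSpace ((g ∣_ U) ⁻¹ᵁ W : Scheme.{u}) := by
    haveI : IsAffine (W : Scheme.{u}) := hW
    exact QuasiCompact.compactSpace_of_compactSpace (g ∣_ U ∣_ W)
  exact Scheme.IsQuasiAffine.of_isImmersion
    (((g ⁻¹ᵁ U).ι.isoImage ((g ∣_ U) ⁻¹ᵁ W)).hom ≫ (X.isoOfEq (image_morphismRestrict_preimage g U W)).hom)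

theorem isAmple_pullback_of_comp (L : X.Modules) {A B : Scheme.{u}} (k : A ⟶ B) (j : B ⟶ X) (i : A ⟶ X')
    (g : X' ⟶ X) (hk : Mor2.IsQuasiAffine k) (e : k ≫ j = i ≫ g) (h : CohB1.IsAmple ((pb j).obj L)) :
    CohB1.IsAmple ((pb i).obj ((pb g).obj L)) :=
  isAmple_of_iso ((Scheme.Modules.pullbackComp k j).app L ≪≫ (Scheme.Modules.pullbackCongr e).app L ≪≫
    ((Scheme.Modules.pullbackComp i g).app L).symm) (isAmple_pullback k hk h)

theorem ampleOn_of_le {U U' : X.Opens} (hle : U ≤ U') (hc : IsCompact (U : Set X)) (h : AmpleOn L U') :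
    AmpleOn L U := by
  haveI : CompactSpace (U : Scheme.{u}) := isCompact_iff_compactSpace.1 hc
  haveI := quasiSeparatedSpace_of_isAmple h
  exact isAmple_of_iso ((Scheme.Modules.pullbackComp (X.homOfLE hle) U'.ι).app L ≪≫
    (Scheme.Modules.pullbackCongr (X.homOfLE_ι hle)).app L)
    (isAmple_pullback _ (isQuasiAffine_of_isImmersion (X.homOfLE hle)) h)

/-- Ampleness over an affine open of the base is local there. -/
theorem ampleOn_preimage (f : X ⟶ Y) {V : Y.Opens} (hV : IsAffineOpen V)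
    (h : ∀ y ∈ V, ∃ g : Γ(Y, V), y ∈ Y.basicOpen g ∧ AmpleOn L (f ⁻¹ᵁ Y.basicOpen g)) :
    AmpleOn L (f ⁻¹ᵁ V) := by
  choose g hy hg using h
  obtain ⟨t, ht⟩ := hV.isCompact.elim_finite_subcover (fun y : V => (Y.basicOpen (g y.1 y.2) : Set Y))
    (fun y => (Y.basicOpen (g y.1 y.2)).isOpen) fun y hyV => Set.mem_iUnion.2 ⟨⟨y, hyV⟩, hy y hyV⟩
  let U := f ⁻¹ᵁ V
  let a : t → Γ((U : Scheme.{u}), ⊤) := fun y => U.topIso.inv (f.app V (g y.1.1 y.1.2))
  have himg : ∀ y : t, U.ι ''ᵁ (U : Scheme.{u}).basicOpen (a y) = f ⁻¹ᵁ Y.basicOpen (g y.1.1 y.1.2) := fun y =>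
    (Scheme.Opens.ι_image_basicOpen_topIso_inv U _).trans (Scheme.preimage_basicOpen f _).symm
  have hcov : ⨆ y, (U : Scheme.{u}).basicOpen (a y) = ⊤ := top_le_iff.1 fun x _ => by
    obtain ⟨y, hyt, hxy⟩ := Set.mem_iUnion₂.1 (ht x.2)
    have hx' : U.ι x ∈ U.ι ''ᵁ (U : Scheme.{u}).basicOpen (a ⟨y, hyt⟩) := by rw [himg]; exact hxy
    obtain ⟨z, hz, hzx⟩ := hx'
    exact Opens.mem_iSup.2 ⟨⟨y, hyt⟩, U.ι.injective hzx ▸ hz⟩
  refine isAmple_of_cover a hcov fun y => ?_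
  refine isAmple_of_iso ((Scheme.Modules.pullbackComp ((U : Scheme.{u}).basicOpen (a y)).ι U.ι).app L).symm ?_
  refine isAmple_pb_of_range_eq (f ⁻¹ᵁ Y.basicOpen (g y.1.1 y.1.2)).ι _ ?_ (hg _ y.1.2)
  rw [Scheme.Opens.range_ι, ← himg y, Scheme.Hom.comp_base, TopCat.coe_comp, Set.range_comp, Scheme.Opens.range_ι]
  rfl

/-- It suffices that every point of the base has an open whose small affines have ample preimages. -/
theorem isRelAmple_of_local (f : X ⟶ Y) [QuasiCompact f]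
    (h : ∀ y : Y, ∃ W : Y.Opens, y ∈ W ∧ ∀ V : Y.Opens, IsAffineOpen V → V ≤ W → AmpleOn L (f ⁻¹ᵁ V)) :
    _root_.RelAmple.IsRelAmple f L := by
  refine (isRelAmple_iff f).2 ⟨inferInstance, fun V hV => ampleOn_preimage f hV fun y hy => ?_⟩
  obtain ⟨W, hyW, hW⟩ := h y
  obtain ⟨g, hgW, hyg⟩ := hV.exists_basicOpen_le (V := W) ⟨y, hyW⟩ hy
  exact ⟨g, hyg, hW _ (hV.basicOpen g) hgW⟩

/-- Over an affine base relative ampleness is ampleness. -/
theorem isRelAmple_iff_isAmple [IsAffine Y] (f : X ⟶ Y) [QuasiCompact f] :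
    _root_.RelAmple.IsRelAmple f L ↔ CohB1.IsAmple L := by
  have hpre : f ⁻¹ᵁ (⊤ : Y.Opens) = ⊤ := rfl
  constructor
  · intro h
    have h1 := ((isRelAmple_iff f).1 h).2 ⊤ (isAffineOpen_top Y)
    refine isAmple_of_iso ((Scheme.Modules.pullbackId X).app L) (isAmple_pb_of_range_eq (f ⁻¹ᵁ ⊤).ι (𝟙 X) ?_ h1)
    rw [Scheme.Opens.range_ι, hpre]
    simp
  · intro h
    refine (isRelAmple_iff f).2 ⟨inferInstance, fun V hV => ?_⟩
    haveI : IsAffine (V : Scheme.{u}) := hV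
    haveI := quasiSeparatedSpace_of_isAmple h
    haveI : CompactSpace (f ⁻¹ᵁ V : Scheme.{u}) := QuasiCompact.compactSpace_of_compactSpace (f ∣_ V)
    exact isAmple_pullback _ (isQuasiAffine_of_isImmersion (f ⁻¹ᵁ V).ι) h

theorem isRelAmple_morphismRestrict {f : X ⟶ Y} (h : _root_.RelAmple.IsRelAmple f L) (U : Y.Opens) :
    _root_.RelAmple.IsRelAmple (f ∣_ U) (L.restrict (f ⁻¹ᵁ U).ι) := by
  obtain ⟨hq, hA⟩ := (isRelAmple_iff f).1 h
  haveI := hq
  haveI : QuasiCompact (f ∣_ U) :=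
    MorphismProperty.of_isPullback (P := @QuasiCompact) (isPullback_morphismRestrict f U).flip inferInstance
  refine (isRelAmple_iff _).2 ⟨inferInstance, fun V hV => ?_⟩
  refine isAmple_of_iso (((pb ((f ∣_ U) ⁻¹ᵁ V).ι).mapIso
    ((Scheme.Modules.restrictFunctorIsoPullback (f ⁻¹ᵁ U).ι).app L)).trans
    ((Scheme.Modules.pullbackComp ((f ∣_ U) ⁻¹ᵁ V).ι (f ⁻¹ᵁ U).ι).app L)).symm ?_
  refine isAmple_pb_of_range_eq (f ⁻¹ᵁ U.ι ''ᵁ V).ι _ ?_ (hA _ (hV.image_of_isOpenImmersion U.ι))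
  rw [Scheme.Opens.range_ι, ← image_morphismRestrict_preimage f U V, Scheme.Hom.comp_base, TopCat.coe_comp,
    Set.range_comp, Scheme.Opens.range_ι]
  rfl

theorem isRelAmple_iff_of_openCover (f : X ⟶ Y) [QuasiCompact f] {ι : Type*} (U : ι → Y.Opens) (hU : ⨆ i, U i = ⊤) :
    _root_.RelAmple.IsRelAmple f L ↔
      ∀ i, _root_.RelAmple.IsRelAmple (f ∣_ (U i)) (L.restrict (f ⁻¹ᵁ (U i)).ι) := by
  refine ⟨fun h i => isRelAmple_morphismRestrict h _, fun h => isRelAmple_of_local f fun y => ?_⟩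
  obtain ⟨i, hi⟩ := Opens.mem_iSup.1 (hU.ge (trivial : y ∈ (⊤ : Y.Opens)))
  refine ⟨U i, hi, fun V hV hVU => ?_⟩
  have hV' : IsAffineOpen ((U i).ι ⁻¹ᵁ V) :=
    hV.preimage_of_isOpenImmersion (U i).ι (by rwa [Scheme.Opens.opensRange_ι])
  have himg : (U i).ι ''ᵁ ((U i).ι ⁻¹ᵁ V) = V := by
    rw [Scheme.Hom.image_preimage_eq_opensRange_inf, Scheme.Opens.opensRange_ι]
    exact inf_eq_right.2 hVU
  have h1 := ((isRelAmple_iff _).1 (h i)).2 _ hV'
  have h2 : CohB1.IsAmple ((pb (((f ∣_ U i) ⁻¹ᵁ ((U i).ι ⁻¹ᵁ V)).ι ≫ (f ⁻¹ᵁ U i).ι)).obj L) :=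
    isAmple_of_iso (((pb _).mapIso ((Scheme.Modules.restrictFunctorIsoPullback (f ⁻¹ᵁ U i).ι).app L)).trans
      ((Scheme.Modules.pullbackComp _ _).app L)) h1
  refine isAmple_pb_of_range_eq (((f ∣_ U i) ⁻¹ᵁ ((U i).ι ⁻¹ᵁ V)).ι ≫ (f ⁻¹ᵁ U i).ι) _ ?_ h2
  rw [Scheme.Opens.range_ι]
  nth_rewrite 1 [← himg]
  rw [← image_morphismRestrict_preimage f (U i), Scheme.Hom.comp_base, TopCat.coe_comp, Set.range_comp,
    Scheme.Opens.range_ι]
  rfl

theorem isRelAmple_of_comp (f : X ⟶ Y) (g : Y ⟶ Z) [QuasiCompact f]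
    (h : _root_.RelAmple.IsRelAmple (f ≫ g) L) : _root_.RelAmple.IsRelAmple f L := by
  refine isRelAmple_of_local f fun y => ?_
  obtain ⟨V, hV, hy, -⟩ := exists_isAffineOpen_mem_and_subset (X := Z) (x := g y) (U := ⊤) trivial
  refine ⟨g ⁻¹ᵁ V, hy, fun W hW hWV => ?_⟩
  refine ampleOn_of_le ((Opens.map f.base).monotone hWV) ?_ (((isRelAmple_iff _).1 h).2 V hV)
  exact f.isCompact_preimage hW.isCompact

theorem isRelAmple_pullback (f : X ⟶ Y) (g : X' ⟶ X) (hg : Mor2.IsQuasiAffine g)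
    (h : _root_.RelAmple.IsRelAmple f L) : _root_.RelAmple.IsRelAmple (g ≫ f) ((pb g).obj L) := by
  obtain ⟨hq, hA⟩ := (isRelAmple_iff f).1 h
  haveI := hq
  haveI := hg.1
  refine (isRelAmple_iff _).2 ⟨inferInstance, fun V hV => ?_⟩
  exact isAmple_pullback_of_comp L (g ∣_ (f ⁻¹ᵁ V)) (f ⁻¹ᵁ V).ι _ g (isQuasiAffine_morphismRestrict g hg _)
    (morphismRestrict_ι g _) (hA V hV)

theorem isRelAmple_baseChange {Y' : Scheme.{u}} (f : X ⟶ Y) [QuasiCompact f] (g : Y' ⟶ Y)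
    (h : _root_.RelAmple.IsRelAmple f L) :
    _root_.RelAmple.IsRelAmple (pullback.snd f g) ((pb (pullback.fst f g)).obj L) := by
  refine isRelAmple_of_local _ fun y => ?_
  obtain ⟨V, hV, hy, -⟩ := exists_isAffineOpen_mem_and_subset (X := Y) (x := g y) (U := ⊤) trivial
  refine ⟨g ⁻¹ᵁ V, hy, fun W hW hWV => ?_⟩
  haveI : IsAffine (V : Scheme.{u}) := hV
  haveI : IsAffine (W : Scheme.{u}) := hW
  let U := pullback.snd f g ⁻¹ᵁ W
  let gW : (W : Scheme.{u}) ⟶ (V : Scheme.{u}) := Y'.homOfLE hWV ≫ g ∣_ V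
  have hgW : gW ≫ V.ι = W.ι ≫ g := by
    simp [gW]
  have hrange : Set.range (U.ι ≫ pullback.fst f g) ⊆ Set.range (f ⁻¹ᵁ V).ι := by
    rw [Scheme.Opens.range_ι]
    rintro _ ⟨z, rfl⟩
    change f (pullback.fst f g (U.ι z)) ∈ V
    rw [← Scheme.Hom.comp_apply, pullback.condition, Scheme.Hom.comp_apply]
    exact hWV z.2
  let k : (U : Scheme.{u}) ⟶ (f ⁻¹ᵁ V : Scheme.{u}) := IsOpenImmersion.lift (f ⁻¹ᵁ V).ι _ hrange
  have hk : k ≫ (f ⁻¹ᵁ V).ι = U.ι ≫ pullback.fst f g := IsOpenImmersion.lift_fac _ _ hrange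
  have hsq : k ≫ (f ∣_ V) = (pullback.snd f g ∣_ W) ≫ gW := by
    rw [← cancel_mono V.ι, Category.assoc, Category.assoc, morphismRestrict_ι, hgW, reassoc_of% hk,
      pullback.condition, morphismRestrict_ι_assoc]
  have hbig : IsPullback (k ≫ (f ⁻¹ᵁ V).ι) (pullback.snd f g ∣_ W) f (gW ≫ V.ι) := by
    rw [hk, hgW]
    exact (isPullback_morphismRestrict (pullback.snd f g) W).flip.paste_horiz (IsPullback.of_hasPullback f g)
  have hleft : IsPullback k (pullback.snd f g ∣_ W) (f ∣_ V) gW :=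
    IsPullback.of_right hbig hsq (isPullback_morphismRestrict f V).flip
  haveI : IsAffineHom k := MorphismProperty.of_isPullback (P := @IsAffineHom) hleft.flip inferInstance
  exact isAmple_pullback_of_comp L k (f ⁻¹ᵁ V).ι U.ι (pullback.fst f g) (isQuasiAffine_of_isAffineHom k) hk
    (((isRelAmple_iff f).1 h).2 V hV)

theorem isRelAmple_tensor (f : X ⟶ Y) {L' : X.Modules} (h : _root_.RelAmple.IsRelAmple f L)
    (h' : _root_.RelAmple.IsRelAmple f L') : _root_.RelAmple.IsRelAmple f (CohB1.tensorMod L L') := by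
  refine (isRelAmple_iff f).2 ⟨h.1, fun V hV => ?_⟩
  have h1 := ((isRelAmple_iff f).1 h').2 V hV
  refine isAmple_of_iso (pullbackTensorIso _ L L').symm
    (isAmple_tensor (((isRelAmple_iff f).1 h).2 V hV) h1.1 fun x => ?_)
  obtain ⟨n, hn, s, hx, -⟩ := (isAmple_iff.1 h1).2.2 x
  exact ⟨n, hn, s, hx⟩

theorem isRelAmple_tensorPow_iff (f : X ⟶ Y) (hL : PicF.IsInvertible L) {n : ℕ} (hn : 0 < n) :
    _root_.RelAmple.IsRelAmple f L ↔ _root_.RelAmple.IsRelAmple f (CohB1.tensorPow L n) := by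
  rw [isRelAmple_iff, isRelAmple_iff]
  refine and_congr_right' (forall_congr' fun V => imp_congr_right fun _ => ?_)
  exact ⟨fun h => isAmple_of_iso (pullbackPow _ L n).symm ((isAmple_tensorPow_iff h.1 hn).1 h),
    fun h => (isAmple_tensorPow_iff (PicLoc.isInvertible_pullback _ hL) hn).2
      (isAmple_of_iso (pullbackPow _ L n) h)⟩

theorem isAmple_of_isAffine [IsAffine X] (hL : PicF.IsInvertible L) : CohB1.IsAmple L := by
  haveI := QCohInv.isQCoh_of_isInvertible hL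
  refine isAmple_iff.2 ⟨hL, inferInstance, fun x => ?_⟩
  have hgen : GG.GenAt L x := GG.GenAt.of_gens (U := ⊤) trivial (fun t : Γ(L, ⊤) => t)
    (by
      have := CohBasics.Affine.germ_span_eq_top (isAffineOpen_top X) (Set.univ : Set Γ(L, ⊤))
        Submodule.span_univ (x := x) trivial
      rwa [Set.image_univ] at this) id fun t => rs_self L _ t
  obtain ⟨s, hs⟩ := GG.exists_genLocus_of_genAt hL hgen
  refine AffineAt.mk one_pos (powOne L).symm s hs ?_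
  have h := isAffineOpen_genLocus_inf hL s (isAffineOpen_top X)
  rwa [inf_top_eq] at h

theorem isAmple_of_isQuasiAffine [X.IsQuasiAffine] (hL : PicF.IsInvertible L) : CohB1.IsAmple L := by
  have hx : ∀ x : X, ∃ r : Γ(X, ⊤), IsAffineOpen (X.basicOpen r) ∧ x ∈ X.basicOpen r := fun x => by
    obtain ⟨_, ⟨_, ⟨r, hr, rfl⟩, rfl⟩, hxr, -⟩ := (Scheme.IsQuasiAffine.isBasis_basicOpen
      X).exists_subset_of_mem_open (Set.mem_univ x) isOpen_univ
    exact ⟨r, hr, hxr⟩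
  choose r hr hxr using hx
  obtain ⟨t, ht⟩ := isCompact_univ.elim_finite_subcover (fun x => (X.basicOpen (r x) : Set X))
    (fun x => (X.basicOpen (r x)).isOpen) fun x _ => Set.mem_iUnion.2 ⟨x, hxr x⟩
  refine isAmple_of_cover (fun x : t => r x.1) (top_le_iff.1 fun y _ => ?_) fun x => ?_
  · obtain ⟨z, hz, hyz⟩ := Set.mem_iUnion₂.1 (ht (Set.mem_univ y))
    exact Opens.mem_iSup.2 ⟨⟨z, hz⟩, hyz⟩
  · haveI : IsAffine (X.basicOpen (r x.1) : Scheme.{u}) := hr _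
    exact isAmple_of_isAffine (PicLoc.isInvertible_pullback _ hL)

theorem isQuasiAffine_of_isAmple_structure (h : CohB1.IsAmple (Coh.structureModule X)) : X.IsQuasiAffine := by
  obtain ⟨hi, hc, hx⟩ := isAmple_iff.1 h
  haveI := hc
  refine Scheme.IsQuasiAffine.of_forall_exists_mem_basicOpen X fun x => ?_
  obtain ⟨n, hn, s, hs, ha⟩ := hx x
  let s' := s ≫ (powUnit X n).hom
  let a : Γ(X, ⊤) := sv s' ⊤
  have hloc : CohB1.genLocus _ s = X.basicOpen a := by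
    rw [← genLocus_comp_iso s (powUnit X n), ← genLocus_inf_eq (isGen_one ⊤) s' (a := a) (smul_one_eq a), inf_top_eq]
  exact ⟨a, hloc ▸ ha, hloc ▸ hs⟩

theorem isRelAmple_id (hL : PicF.IsInvertible L) : _root_.RelAmple.IsRelAmple (𝟙 X) L :=
  (isRelAmple_iff _).2 ⟨inferInstance, fun V hV => by
    haveI : IsAffine (𝟙 X ⁻¹ᵁ V : Scheme.{u}) := hV
    exact isAmple_of_isAffine (PicLoc.isInvertible_pullback _ hL)⟩

theorem isQuasiAffine_iff_isRelAmple (f : X ⟶ Y) [QuasiCompact f] :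
    Mor2.IsQuasiAffine f ↔ _root_.RelAmple.IsRelAmple f (Coh.structureModule X) := by
  rw [isRelAmple_iff]
  refine and_congr_right' (forall_congr' fun V => imp_congr_right fun _ => ⟨fun h => ?_, fun h => ?_⟩)
  · haveI := h
    exact isAmple_of_isQuasiAffine (PicLoc.isInvertible_pullback _ (PicLoc.isInvertible_structureModule X))
  · exact isQuasiAffine_of_isAmple_structure (isAmple_of_iso (PicLoc.pullbackStructureIso _) h)

theorem isQuasiAffine_of_isEmbedding (g : X ⟶ Y) [QuasiCompact g] (hg : Topology.IsEmbedding g.base) :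
    Mor2.IsQuasiAffine g := by
  refine ⟨inferInstance, fun V hV => ?_⟩
  haveI : IsAffine (V : Scheme.{u}) := hV
  haveI : CompactSpace (g ⁻¹ᵁ V : Scheme.{u}) := QuasiCompact.compactSpace_of_compactSpace (g ∣_ V)
  refine Scheme.IsQuasiAffine.of_forall_exists_mem_basicOpen _ fun x => ?_
  obtain ⟨W, hW, hxW, hWV⟩ := exists_isAffineOpen_mem_and_subset (X := X) (x := x.1) (U := g ⁻¹ᵁ V) x.2
  obtain ⟨O, hO, hOW⟩ := hg.isInducing.isOpen_iff.1 W.isOpen
  obtain ⟨r, hrO, hxr⟩ := hV.exists_basicOpen_le (V := ⟨O, hO⟩) ⟨g x.1, (Set.ext_iff.1 hOW x.1).2 hxW⟩ x.2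
  let a : Γ((g ⁻¹ᵁ V : X.Opens), ⊤) := (g ⁻¹ᵁ V).topIso.inv (g.app V r)
  have himg : (g ⁻¹ᵁ V).ι ''ᵁ (g ⁻¹ᵁ V : Scheme.{u}).basicOpen a = X.basicOpen (g.app V r) :=
    Scheme.Opens.ι_image_basicOpen_topIso_inv _ _
  have hle : X.basicOpen (g.app V r) ≤ W := by
    rw [← Scheme.preimage_basicOpen]
    exact fun z hz => (Set.ext_iff.1 hOW z).1 (hrO hz)
  refine ⟨a, ?_, ?_⟩
  · rw [← Scheme.Hom.isAffineOpen_iff_of_isOpenImmersion (g ⁻¹ᵁ V).ι, himg]
    have h2 : X.basicOpen (X.presheaf.map (homOfLE hWV).op (g.app V r)) = X.basicOpen (g.app V r) := by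
      rw [Scheme.basicOpen_res]
      exact inf_eq_right.2 hle
    rw [← h2]
    exact hW.basicOpen _
  · have hx' : (g ⁻¹ᵁ V).ι x ∈ (g ⁻¹ᵁ V).ι ''ᵁ (g ⁻¹ᵁ V : Scheme.{u}).basicOpen a := by
      rw [himg, ← Scheme.preimage_basicOpen]
      exact hxr
    obtain ⟨z, hz, hzx⟩ := hx'
    exact (g ⁻¹ᵁ V).ι.injective hzx ▸ hz

end Groth.Agent.Lib.Ample.RelAmple
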