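import Groth.Agent.Lib.Ample.Extend
import Groth.Agent.Lib.TensorMod.QCohInv

/-!
# Loci of sections of powers of an ample module form a basis; finite sets
-/

noncomputable section

universe u

open CategoryTheory CategoryTheory.Limits AlgebraicGeometry Opposite TopologicalSpace

namespace Groth.Agent.Lib.Ample.Basis

open TensorMod TensorMod.Basic TensorMod.Free TensorMod.Dual TensorMod.Gen TensorMod.LocIso TensorMod.Pullback
  GenLocus Pow Extend

variable {X : Scheme.{u}} {L M : X.Modules}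

theorem isGen_genLocus (s : Coh.structureModule X ⟶ L) :
    IsGen L (CohB1.genLocus L s) (sv s _) := by
  rw [← isIso_restrict_iff]
  refine isIso_of_locally _ fun y => ?_
  obtain ⟨U, hy, hU⟩ := (mem_genLocus_iff s).1 y.2
  refine ⟨(CohB1.genLocus L s).ι ⁻¹ᵁ U, hy, fun V hV => ?_⟩
  exact isIso_app_of_isIso_restrict ((isIso_restrict_iff s U).2 hU)
    ((Scheme.Hom.image_mono _ hV).trans (Scheme.Hom.image_preimage_le _ U))

theorem genLocus_eq_basicOpen_of_sv {U : X.Opens} {t : Coh.structureModule X ⟶ L} {a : Γ(X, U)}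
    {e : Γ(L, U)} (he : IsGen L U e) (ha : sv t U = a • e) : CohB1.genLocus L t ⊓ U = X.basicOpen a :=
  genLocus_inf_eq he t ha

/-- An affine open meets the locus of a section in an affine open. -/
theorem isAffineOpen_genLocus_inf (hL : PicF.IsInvertible L) (s : Coh.structureModule X ⟶ L) {U : X.Opens}
    (hU : IsAffineOpen U) : IsAffineOpen (CohB1.genLocus L s ⊓ U) := by
  haveI := isAffineHom_genLocus hL s
  have h := ((CohB1.genLocus L s).ι.isAffineOpen_iff_of_isOpenImmersion).2 (hU.preimage (CohB1.genLocus L s).ι)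
  rwa [Scheme.Hom.image_preimage_eq_opensRange_inf, Scheme.Opens.opensRange_ι] at h

/-- Functions on an affine locus extend to sections of higher powers. -/
theorem exists_sec_basicOpen [CompactSpace X] [QuasiSeparatedSpace X] (hM : PicF.IsInvertible M)
    (s : Coh.structureModule X ⟶ M) (f : Γ(X, CohB1.genLocus M s)) :
    ∃ n : ℕ, 0 < n ∧ ∃ t : Coh.structureModule X ⟶ CohB1.tensorPow M n,
      CohB1.genLocus _ t = X.basicOpen f := by
  haveI := QCohInv.isQCoh_structureModule X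
  obtain ⟨n, -, t', ht'⟩ := exists_extension (F := Coh.structureModule X) hM s f
  obtain ⟨t, ht⟩ := exists_hom_of_sec t'
  let G := CohB1.genLocus M s
  have hgen := isGen_tmul (isGen_one G) (isGen_powSec (isGen_genLocus s) n)
  have hval : sv t G = f • (SecTwist.tmul (Coh.structureModule X) (CohB1.tensorPow M n) G (one X G)
      (powSec (sv s G) n) : Γ(CohB1.tensorMod (Coh.structureModule X) (CohB1.tensorPow M n), G)) := by
    rw [← rs_sv t (le_top : G ≤ ⊤), ht, ht', twist_eq (a := 1) (e := sv s G) (one_smul _ _).symm, one_pow,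
      one_smul, ← pairM_id, ← pairM_id]
    exact (congrArg (fun z => pairM (𝟙 _) z (powSec (sv s G) n)) (smul_one_eq f)).trans
      (pairM_smul_left _ _ _ _)
  have h1 : CohB1.genLocus _ t ⊓ G = X.basicOpen f := genLocus_inf_eq hgen t hval
  let t₂ : Coh.structureModule X ⟶ CohB1.tensorPow M n := t ≫ (leftUnit _).hom
  refine ⟨n + 1, n.succ_pos, SecTwist.tmulHom t₂ s, ?_⟩
  rw [← h1, ← genLocus_comp_iso t (leftUnit _)]
  exact genLocus_tmulHom (Invertible.isInvertible_tensorPow hM n) hM t₂ s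

/-- For an ample module the affine loci form a basis. -/
theorem exists_locus_subset [QuasiSeparatedSpace X] (hL : CohB1.IsAmple L) {x : X} {U : X.Opens} (hx : x ∈ U) :
    ∃ n : ℕ, 0 < n ∧ ∃ s : Coh.structureModule X ⟶ CohB1.tensorPow L n,
      x ∈ CohB1.genLocus _ s ∧ CohB1.genLocus _ s ≤ U ∧ IsAffineOpen (CohB1.genLocus _ s) := by
  obtain ⟨hi, hc, hcov⟩ := isAmple_iff.1 hL
  haveI := hc
  obtain ⟨m, hm, s, hxs, hs⟩ := hcov x
  obtain ⟨f, hfle, hxf⟩ := hs.exists_basicOpen_le (V := U) ⟨x, hx⟩ hxs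
  obtain ⟨n, hn, t, ht⟩ := exists_sec_basicOpen (Invertible.isInvertible_tensorPow hi m) s f
  refine ⟨m * n, Nat.mul_pos hm hn, t ≫ (powMul L m n).hom, ?_⟩
  rw [genLocus_comp_iso t (powMul L m n), ht]
  exact ⟨hxf, hfle, hs.basicOpen f⟩

theorem isAmple_iff_isTopologicalBasis [CompactSpace X] [QuasiSeparatedSpace X] (hL : PicF.IsInvertible L) :
    CohB1.IsAmple L ↔ IsTopologicalBasis {U : Set X | ∃ (n : ℕ) (s : Coh.structureModule X ⟶ CohB1.tensorPow L (n + 1)),
      U = (CohB1.genLocus (CohB1.tensorPow L (n + 1)) s : Set X)} := by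
  constructor
  · intro h
    refine isTopologicalBasis_of_isOpen_of_nhds ?_ fun x V hxV hV => ?_
    · rintro _ ⟨n, s, rfl⟩
      exact (CohB1.genLocus _ s).isOpen
    · obtain ⟨n, hn, s, hxs, hsV, -⟩ := exists_locus_subset h (U := ⟨V, hV⟩) hxV
      obtain ⟨m, rfl⟩ : ∃ m, n = m + 1 := ⟨n - 1, by omega⟩
      exact ⟨_, ⟨m, s, rfl⟩, hxs, hsV⟩
  · intro hB
    refine isAmple_iff.2 ⟨hL, inferInstance, fun x => ?_⟩
    obtain ⟨V, hV, hxV, -⟩ := exists_isAffineOpen_mem_and_subset (x := x) (U := ⊤) trivial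
    obtain ⟨_, ⟨n, s, rfl⟩, hxs, hsV⟩ := hB.exists_subset_of_mem_open hxV V.isOpen
    refine ⟨n + 1, n.succ_pos, s, hxs, ?_⟩
    have h := isAffineOpen_genLocus_inf (Invertible.isInvertible_tensorPow hL (n + 1)) s hV
    rwa [inf_eq_left.2 (show CohB1.genLocus _ s ≤ V from hsV)] at h

theorem sv_sum {ι : Type*} (I : Finset ι) (σ : ι → (Coh.structureModule X ⟶ L)) (U : X.Opens) :
    sv (∑ i ∈ I, σ i) U = ∑ i ∈ I, sv (σ i) U :=
  sum_app I σ _

/-- The locus of a sum lies in the union of the loci. -/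
theorem exists_mem_of_mem_genLocus_sum (hL : PicF.IsInvertible L) {ι : Type*} (I : Finset ι)
    (σ : ι → (Coh.structureModule X ⟶ L)) {x : X} (hx : x ∈ CohB1.genLocus L (∑ i ∈ I, σ i)) :
    ∃ i ∈ I, x ∈ CohB1.genLocus L (σ i) := by
  obtain ⟨U, e, hxU, he⟩ := isInvertible_iff.1 hL x
  choose a ha using fun i => exists_coord he (sv (σ i) U)
  have hsum : sv (∑ i ∈ I, σ i) U = (∑ i ∈ I, a i) • e := by
    rw [sv_sum, Finset.sum_smul]; exact Finset.sum_congr rfl fun i _ => ha i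
  have h1 := (genLocus_inf_eq he _ hsum).le ⟨hx, hxU⟩
  rw [Scheme.mem_basicOpen _ _ x hxU, map_sum] at h1
  by_contra hcon
  push Not at hcon
  refine (Finset.sum_induction _ (· ∈ nonunits (X.presheaf.stalk x)) (fun _ _ => IsLocalRing.nonunits_add)
    (zero_mem_nonunits.2 zero_ne_one) fun i hi => ?_) h1
  intro hu
  exact hcon i hi ((genLocus_inf_eq he _ (ha i)).ge ((Scheme.mem_basicOpen _ _ x hxU).2 hu)).1

/-- Where exactly one summand generates, the sum generates. -/
theorem mem_genLocus_sum (hL : PicF.IsInvertible L) {ι : Type*} [DecidableEq ι] (I : Finset ι)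
    (σ : ι → (Coh.structureModule X ⟶ L)) {x : X} {i : ι} (hi : i ∈ I) (hx : x ∈ CohB1.genLocus L (σ i))
    (h : ∀ j ∈ I, j ≠ i → x ∉ CohB1.genLocus L (σ j)) : x ∈ CohB1.genLocus L (∑ j ∈ I, σ j) := by
  obtain ⟨U, e, hxU, he⟩ := isInvertible_iff.1 hL x
  choose a ha using fun i => exists_coord he (sv (σ i) U)
  have hsum : sv (∑ j ∈ I, σ j) U = (∑ j ∈ I, a j) • e := by
    rw [sv_sum, Finset.sum_smul]; exact Finset.sum_congr rfl fun j _ => ha j
  refine ((genLocus_inf_eq he _ hsum).ge ((Scheme.mem_basicOpen _ _ x hxU).2 ?_)).1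
  rw [map_sum, ← Finset.add_sum_erase I _ hi]
  by_contra hnu
  have hu : IsUnit (X.presheaf.germ U x hxU (a i)) :=
    (Scheme.mem_basicOpen _ _ x hxU).1 ((genLocus_inf_eq he _ (ha i)).le ⟨hx, hxU⟩)
  have hrest : ∑ j ∈ I.erase i, X.presheaf.germ U x hxU (a j) ∈ nonunits (X.presheaf.stalk x) :=
    Finset.sum_induction _ (· ∈ nonunits (X.presheaf.stalk x)) (fun _ _ => IsLocalRing.nonunits_add)
      (zero_mem_nonunits.2 zero_ne_one) fun j hj hju => h j (Finset.mem_of_mem_erase hj) (Finset.ne_of_mem_erase hj)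
        ((genLocus_inf_eq he _ (ha j)).ge ((Scheme.mem_basicOpen _ _ x hxU).2 hju)).1
  rcases IsLocalRing.isUnit_or_isUnit_of_isUnit_add (a := X.presheaf.germ U x hxU (a i) +
      ∑ j ∈ I.erase i, X.presheaf.germ U x hxU (a j))
      (b := -∑ j ∈ I.erase i, X.presheaf.germ U x hxU (a j)) (by simpa using hu) with h' | h'
  · exact hnu h'
  · exact hrest (IsUnit.neg_iff _ |>.1 h')

/-- If every summand has affine locus, so has the sum. -/
theorem isAffineOpen_genLocus_sum (hL : PicF.IsInvertible L) {ι : Type*} [Fintype ι]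
    (σ : ι → (Coh.structureModule X ⟶ L)) (h : ∀ i, IsAffineOpen (CohB1.genLocus L (σ i))) :
    IsAffineOpen (CohB1.genLocus L (∑ i, σ i)) := by
  let W := CohB1.genLocus L (∑ i, σ i)
  have hW := isGen_genLocus (∑ i, σ i)
  choose g hg using fun i => exists_coord hW (sv (σ i) W)
  refine isAffineOpen_of_isAffineOpen_basicOpen W (Set.range g) ?_ ?_
  · refine Ideal.eq_top_iff_one _ |>.2 ?_
    have h1 : ∑ i, g i = 1 := (hW W le_rfl).1 (by
      simp only [rs_self]
      rw [Finset.sum_smul, one_smul]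
      exact (Finset.sum_congr rfl fun i _ => (hg i).symm).trans (sv_sum _ _ _).symm)
    rw [← h1]
    exact Ideal.sum_mem _ fun i _ => Ideal.subset_span ⟨i, rfl⟩
  · rintro _ ⟨i, rfl⟩
    change IsAffineOpen (X.basicOpen (g i))
    rw [← genLocus_inf_eq hW (σ i) (hg i), inf_comm]
    exact isAffineOpen_genLocus_inf hL _ (h i)

/-- A finite set of points has an affine neighbourhood of the form `X_s`, inside a given open. -/
theorem exists_locus_of_finite [QuasiSeparatedSpace X] (hL : CohB1.IsAmple L) (Z : Set X) (hZ : Z.Finite)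
    (U : X.Opens) (hZU : Z ⊆ U) :
    ∃ n : ℕ, 0 < n ∧ ∃ s : Coh.structureModule X ⟶ CohB1.tensorPow L n,
      Z ⊆ CohB1.genLocus _ s ∧ CohB1.genLocus _ s ≤ U ∧ IsAffineOpen (CohB1.genLocus _ s) := by
  classical
  obtain ⟨hi, -, -⟩ := isAmple_iff.1 hL
  -- closed points of `Z` for the specialization order
  let Z₀ : Set X := {z ∈ Z | ∀ z' ∈ Z, z ⤳ z' → z' = z}
  have hmin : ∀ z ∈ Z, ∃ z' ∈ Z₀, z ⤳ z' := by
    intro z hz
    obtain ⟨z', ⟨hz', hzz'⟩, hmax⟩ := (hZ.subset (Set.sep_subset Z (z ⤳ ·))).exists_minimalFor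
      (fun w => closure ({w} : Set X)) {w ∈ Z | z ⤳ w} ⟨z, hz, specializes_rfl⟩
    refine ⟨z', ⟨hz', fun w hw hzw => ?_⟩, hzz'⟩
    have h1 : closure ({w} : Set X) ⊆ closure {z'} := specializes_iff_closure_subset.1 hzw
    have h2 := hmax ⟨hw, hzz'.trans hzw⟩ h1
    exact (Inseparable.eq ((specializes_iff_closure_subset.2 h2).antisymm hzw))
  haveI : Fintype Z₀ := (hZ.subset (Set.sep_subset _ _)).fintype
  have hsel : ∀ z : Z₀, ∃ n : ℕ, 0 < n ∧ ∃ s : Coh.structureModule X ⟶ CohB1.tensorPow L n,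
      (z : X) ∈ CohB1.genLocus _ s ∧ CohB1.genLocus _ s ≤ U ∧ IsAffineOpen (CohB1.genLocus _ s) ∧
        ∀ z' : Z₀, z' ≠ z → (z' : X) ∉ CohB1.genLocus _ s := by
    intro z
    let C : Set X := ⋃ z' : {z' : Z₀ // z' ≠ z}, closure {(z'.1 : X)}
    have hC : IsClosed C := isClosed_iUnion_of_finite fun _ => isClosed_closure
    have hzC : (z : X) ∉ C := fun h => by
      obtain ⟨⟨z', hne⟩, hz'⟩ := Set.mem_iUnion.1 h
      exact hne (Subtype.ext ((z'.2.2 z z.2.1 (specializes_iff_mem_closure.2 hz')).symm))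
    obtain ⟨n, hn, s, hzs, hsU, hsa⟩ := exists_locus_subset hL (U := U ⊓ ⟨Cᶜ, hC.isOpen_compl⟩)
      (x := (z : X)) ⟨hZU z.2.1, hzC⟩
    exact ⟨n, hn, s, hzs, hsU.trans inf_le_left, hsa, fun z' hne hz' =>
      (hsU hz').2 (Set.mem_iUnion.2 ⟨⟨z', hne⟩, subset_closure rfl⟩)⟩
  choose n hn s hzs hsU hsa hoth using hsel
  let K := ∏ z, n z
  have hK : 0 < K := Finset.prod_pos fun z _ => hn z
  let k : Z₀ → ℕ := fun z => ∏ w ∈ Finset.univ.erase z, n w
  have hnk : ∀ z, n z * k z = K := fun z => Finset.mul_prod_erase _ _ (Finset.mem_univ z)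
  let σ : Z₀ → (Coh.structureModule X ⟶ CohB1.tensorPow L K) := fun z =>
    SecTwist.powHom (s z) (k z) ≫ (powMul L (n z) (k z) ≪≫ powCongr L (hnk z)).hom
  have hσ : ∀ z, CohB1.genLocus _ (σ z) = CohB1.genLocus _ (s z) := fun z => by
    rw [genLocus_comp_iso, genLocus_powHom (Invertible.isInvertible_tensorPow hi _) _ _
      (Finset.prod_pos fun w _ => hn w)]
  refine ⟨K, hK, ∑ z, σ z, fun z hz => ?_, fun x hx => ?_,
    isAffineOpen_genLocus_sum (Invertible.isInvertible_tensorPow hi K) σ fun z => hσ z ▸ hsa z⟩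
  · obtain ⟨z', hz', hzz'⟩ := hmin z hz
    refine hzz'.mem_open (CohB1.genLocus _ _).isOpen (mem_genLocus_sum (Invertible.isInvertible_tensorPow hi K)
      _ σ (Finset.mem_univ ⟨z', hz'⟩) (hσ ⟨z', hz'⟩ ▸ hzs _) fun w _ hne => hσ w ▸ hoth w ⟨z', hz'⟩ hne.symm)
  · obtain ⟨z, -, hxz⟩ := exists_mem_of_mem_genLocus_sum (Invertible.isInvertible_tensorPow hi K) _ σ hx
    exact hsU z (hσ z ▸ hxz)

/-- `L ⊗ L'` is ample if `L` is and powers of `L'` are generated by sections at every point. -/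
theorem isAmple_tensor {L' : X.Modules} (hL : CohB1.IsAmple L) (hL' : PicF.IsInvertible L')
    (h : ∀ x : X, ∃ n : ℕ, 0 < n ∧ ∃ s : Coh.structureModule X ⟶ CohB1.tensorPow L' n, x ∈ CohB1.genLocus _ s) :
    CohB1.IsAmple (CohB1.tensorMod L L') := by
  obtain ⟨hi, hc, hx⟩ := isAmple_iff.1 hL
  refine isAmple_iff.2 ⟨Invertible.isInvertible_tensorMod hi hL', hc, fun x => ?_⟩
  obtain ⟨m, hm, a, hxa, haff⟩ := hx x
  obtain ⟨k, hk, b, hxb⟩ := h x
  have ha := genLocus_powHom (Invertible.isInvertible_tensorPow hi m) a k hk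
  have hb := genLocus_powHom (Invertible.isInvertible_tensorPow hL' k) b m hm
  let e : CohB1.tensorMod (CohB1.tensorPow (CohB1.tensorPow L m) k) (CohB1.tensorPow (CohB1.tensorPow L' k) m) ≅
      CohB1.tensorPow (CohB1.tensorMod L L') (m * k) :=
    tensorIso (powMul L m k) (powMul L' k m ≪≫ powCongr L' (Nat.mul_comm k m)) ≪≫ (powTensor L L' (m * k)).symm
  have hloc : CohB1.genLocus _ (SecTwist.tmulHom (SecTwist.powHom a k) (SecTwist.powHom b m)) =
      CohB1.genLocus _ b ⊓ CohB1.genLocus _ a := by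
    rw [genLocus_tmulHom (Invertible.isInvertible_tensorPow (Invertible.isInvertible_tensorPow hi m) k)
      (Invertible.isInvertible_tensorPow (Invertible.isInvertible_tensorPow hL' k) m), ha, hb, inf_comm]
  refine .mk (Nat.mul_pos hm hk) e (SecTwist.tmulHom (SecTwist.powHom a k) (SecTwist.powHom b m)) ?_ ?_
  · rw [hloc]; exact ⟨hxb, hxa⟩
  · rw [hloc]; exact isAffineOpen_genLocus_inf (Invertible.isInvertible_tensorPow hL' k) b haff

end Groth.Agent.Lib.Ample.Basis
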