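import Groth.Prelude.Def_SecTwist
import Groth.Agent.Lib.TensorMod.Invertible
import Groth.Agent.Lib.TensorMod.LocIso
import Groth.Agent.Lib.Modules.Free

/-!
# The locus where a global section generates an invertible module
-/

noncomputable section

universe u

open CategoryTheory CategoryTheory.Limits AlgebraicGeometry Opposite TopologicalSpace

namespace Groth.Agent.Lib.Ample.GenLocus

open TensorMod TensorMod.Basic TensorMod.Free TensorMod.Dual TensorMod.Gen TensorMod.LocIso TensorMod.HomGlue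
  TensorMod.Pullback

variable {X : Scheme.{u}} {L M N : X.Modules}

/-- The section over `U` named by `s`. -/
abbrev sv (s : Coh.structureModule X ⟶ L) (U : X.Opens) : Γ(L, U) :=
  s.app U (one X U)

theorem sv_eq_val (s : Coh.structureModule X ⟶ L) (U : X.Opens) : sv s U = SecTwist.val s U := rfl

theorem rs_sv (s : Coh.structureModule X ⟶ L) {U V : X.Opens} (h : V ≤ U) :
    rs L h (sv s U) = sv s V := rs_app_one s h

theorem sv_comp (s : Coh.structureModule X ⟶ L) (φ : L ⟶ M) (U : X.Opens) :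
    sv (s ≫ φ) U = φ.app U (sv s U) := rfl

/-- `s` is an isomorphism over `U` iff its value generates. -/
theorem isIso_restrict_iff (s : Coh.structureModule X ⟶ L) (U : X.Opens) :
    IsIso ((rU U).map s) ↔ IsGen L U (sv s U) := by
  have key : ∀ (V : X.Opens) (h : V ≤ U), (fun a : Γ(X, V) => a • rs L h (sv s U)) = ⇑(s.app V) :=
    fun V h => funext fun a => by
      rw [rs_sv]
      exact (app_eq_smul s a).symm
  constructor
  · intro h V hV
    rw [key V hV]
    exact bijective_app_of_isIso (isIso_app_of_isIso_restrict h hV)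
  · intro h
    refine isIso_restrict_of_isIso_app fun V hV => (ConcreteCategory.isIso_iff_bijective _).2 ?_
    exact key V hV ▸ h V hV

theorem mem_genLocus_iff (s : Coh.structureModule X ⟶ L) {x : X} :
    x ∈ CohB1.genLocus L s ↔ ∃ U : X.Opens, x ∈ U ∧ IsGen L U (sv s U) := by
  rw [CohB1.genLocus, Opens.mem_sSup]
  constructor
  · rintro ⟨U, hU, hx⟩
    exact ⟨U, hx, (isIso_restrict_iff s U).1 hU⟩
  · rintro ⟨U, hx, hU⟩
    exact ⟨U, (isIso_restrict_iff s U).2 hU, hx⟩

theorem le_genLocus {s : Coh.structureModule X ⟶ L} {U : X.Opens} (h : IsGen L U (sv s U)) :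
    U ≤ CohB1.genLocus L s := fun _ hx => (mem_genLocus_iff s).2 ⟨U, hx, h⟩

/-- A multiple of a generator by a unit generates. -/
theorem IsGen_smul_isUnit {U : X.Opens} {e : Γ(L, U)} (he : IsGen L U e) {a : Γ(X, U)} (ha : IsUnit a) :
    IsGen L U (a • e) := fun V hV => by
  have h1 : (fun b : Γ(X, V) => b • rs L hV (a • e)) = (fun b => b • rs L hV e) ∘
      fun b => b * X.presheaf.map (homOfLE hV).op a := funext fun b => by
    rw [Function.comp_apply, rs_smul, smul_smul]
  rw [h1]
  exact (he V hV).comp (IsUnit.isUnit_iff_mulRight_bijective.1 (ha.map _))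

/-- Two generators differ by a unit. -/
theorem isUnit_of_isGen_smul {U : X.Opens} {e : Γ(L, U)} (he : IsGen L U e) {a : Γ(X, U)}
    (ha : IsGen L U (a • e)) : IsUnit a := by
  obtain ⟨b, hb⟩ := (ha U le_rfl).2 (rs L le_rfl e)
  refine IsUnit.of_mul_eq_one b ((he U le_rfl).1 ?_)
  simp only [rs_self, one_smul] at hb ⊢
  rwa [mul_comm, mul_smul]

/-- In a frame, the locus is the non-vanishing locus of the coordinate. -/
theorem genLocus_inf_eq {U : X.Opens} {e : Γ(L, U)} (he : IsGen L U e) (s : Coh.structureModule X ⟶ L)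
    {a : Γ(X, U)} (ha : sv s U = a • e) : CohB1.genLocus L s ⊓ U = X.basicOpen a := by
  apply le_antisymm
  · rintro x ⟨hx, hxU⟩
    obtain ⟨W, hxW, hW⟩ := (mem_genLocus_iff s).1 hx
    have hgen := hW.res (inf_le_left : W ⊓ U ≤ W)
    rw [rs_sv, ← rs_sv s (inf_le_right : W ⊓ U ≤ U), ha, rs_smul] at hgen
    have hu := isUnit_of_isGen_smul (he.res inf_le_right) hgen
    have hb := X.basicOpen_of_isUnit hu
    have : x ∈ X.basicOpen (X.presheaf.map (homOfLE (inf_le_right : W ⊓ U ≤ U)).op a) :=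
      by rw [hb]; exact ⟨hxW, hxU⟩
    rw [Scheme.basicOpen_res] at this
    exact this.2
  · refine le_inf (le_genLocus ?_) (X.basicOpen_le a)
    rw [← rs_sv s (X.basicOpen_le a), ha, rs_smul]
    exact IsGen_smul_isUnit (he.res _) (RingedSpace.isUnit_res_basicOpen _ a)

theorem exists_coord {U : X.Opens} {e : Γ(L, U)} (he : IsGen L U e) (m : Γ(L, U)) :
    ∃ a : Γ(X, U), m = a • e := by
  obtain ⟨a, ha⟩ := (he U le_rfl).2 m
  exact ⟨a, by simpa only [rs_self] using ha.symm⟩

theorem isGen_of_isIso_over {U : X.Opens} {φ : L ⟶ M} (h : IsIso ((rU U).map φ)) {e : Γ(L, U)}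
    (he : IsGen L U e) : IsGen M U (φ.app U e) := fun V hV => by
  have h1 : (fun a : Γ(X, V) => a • rs M hV (φ.app U e)) = φ.app V ∘ fun a => a • rs L hV e :=
    funext fun a => by rw [Function.comp_apply, rs_app, Scheme.Modules.Hom.app_smul]
  rw [h1]
  exact (bijective_app_of_isIso (isIso_app_of_isIso_restrict h hV)).comp (he V hV)

theorem isIso_over_of_iso (e : L ≅ M) (U : X.Opens) : IsIso ((rU U).map e.hom) := inferInstance

theorem genLocus_comp_iso (s : Coh.structureModule X ⟶ L) (e : L ≅ M) :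
    CohB1.genLocus M (s ≫ e.hom) = CohB1.genLocus L s := by
  refine congrArg sSup (Set.ext fun U => ?_)
  simp only [Set.mem_setOf_eq]
  rw [Functor.map_comp]
  exact ⟨fun _ => IsIso.of_isIso_comp_right _ ((rU U).map e.hom), fun _ => inferInstance⟩

theorem genLocus_iso_comp (i : Coh.structureModule X ≅ Coh.structureModule X)
    (s : Coh.structureModule X ⟶ L) : CohB1.genLocus L (i.hom ≫ s) = CohB1.genLocus L s := by
  refine congrArg sSup (Set.ext fun U => ?_)
  simp only [Set.mem_setOf_eq]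
  rw [Functor.map_comp]
  exact ⟨fun _ => IsIso.of_isIso_comp_left ((rU U).map i.hom) _, fun _ => inferInstance⟩

theorem isGen_one (U : X.Opens) : IsGen (Coh.structureModule X) U (one X U) := fun V hV => by
  have h1 : (fun a : Γ(X, V) => a • rs (Coh.structureModule X) hV (one X U)) =
      fun a => (show Γ(Coh.structureModule X, V) from a) := funext fun a => by
    have h2 : rs (Coh.structureModule X) hV (one X U) = one X V := map_one (X.presheaf.map (homOfLE hV).op).hom
    rw [h2]
    exact (smul_one_eq a).symm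
  rw [h1]
  exact Function.bijective_id

theorem genLocus_id : CohB1.genLocus _ (𝟙 (Coh.structureModule X)) = ⊤ :=
  top_le_iff.1 (le_genLocus (by exact isGen_one ⊤))

/-- Global sections as morphisms: a section gives a morphism with that value. -/
theorem exists_hom_of_sec (m : Γ(L, ⊤)) : ∃ s : Coh.structureModule X ⟶ L, sv s ⊤ = m :=
  ⟨Modules.Free.unitHom L m, Modules.Free.unitHom_app_one L m⟩

/-- The inclusion of the locus is affine. -/
theorem isAffineHom_genLocus (hL : PicF.IsInvertible L) (s : Coh.structureModule X ⟶ L) :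
    IsAffineHom (CohB1.genLocus L s).ι := by
  have h : ∀ x : X, ∃ V : X.Opens, x ∈ V ∧ IsAffineOpen V ∧ ∃ e : Γ(L, V), IsGen L V e := fun x => by
    obtain ⟨U, e, hx, he⟩ := isInvertible_iff.1 hL x
    obtain ⟨V, hV, hxV, hle⟩ := exists_isAffineOpen_mem_and_subset (U := U) hx
    exact ⟨V, hxV, hV, _, he.res hle⟩
  choose V hx hV e he using h
  refine isAffineHom_of_forall_exists_isAffineOpen _ fun x => ⟨V x, hx x, hV x, ?_⟩
  obtain ⟨a, ha⟩ := exists_coord (he x) (sv s (V x))
  have h1 : IsAffineOpen ((CohB1.genLocus L s).ι ''ᵁ ((CohB1.genLocus L s).ι ⁻¹ᵁ V x)) := by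
    rw [Scheme.Hom.image_preimage_eq_opensRange_inf, Scheme.Opens.opensRange_ι, genLocus_inf_eq (he x) s ha]
    exact (hV x).basicOpen a
  exact ((CohB1.genLocus L s).ι.isAffineOpen_iff_of_isOpenImmersion).1 h1

section Pullback

variable {Y : Scheme.{u}} (f : X ⟶ Y)

theorem unitSec_one (V : Y.Opens) :
    (PicLoc.pullbackStructureIso f).hom.app (f ⁻¹ᵁ V) (unitSec f _ (one Y V)) = one X (f ⁻¹ᵁ V) :=
  (congrArg (fun t => t.app V (one Y V)) (unit_comp_structure f)).trans (map_one (f.app V).hom)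

theorem isGen_unitSec_one (V : Y.Opens) :
    IsGen ((pb f).obj (Coh.structureModule Y)) (f ⁻¹ᵁ V) (unitSec f _ (one Y V)) := by
  have h := isGen_of_isIso_over (isIso_over_of_iso (PicLoc.pullbackStructureIso f).symm (f ⁻¹ᵁ V))
    (isGen_one (f ⁻¹ᵁ V))
  rw [← unitSec_one f V] at h
  convert h using 1
  exact (congrArg (fun t => t.app (f ⁻¹ᵁ V) (unitSec f _ (one Y V)))
    (PicLoc.pullbackStructureIso f).hom_inv_id).symm

theorem unitSec_rs {P : Y.Modules} {U V : Y.Opens} (h : V ≤ U) (m : Γ(P, U)) :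
    rs ((pb f).obj P) ((Opens.map f.base).monotone h : f ⁻¹ᵁ V ≤ f ⁻¹ᵁ U) (unitSec f P m) =
      unitSec f P (rs P h m) :=
  rs_app ((pbAdj f).unit.app P) h m

theorem unitSec_smul {P : Y.Modules} {U : Y.Opens} (a : Γ(Y, U)) (m : Γ(P, U)) :
    unitSec f P (a • m) = f.app U a • unitSec f P m :=
  ((pbAdj f).unit.app P).app_smul a m

theorem isGen_unitSec {P : Y.Modules} {U : Y.Opens} {e : Γ(P, U)} (he : IsGen P U e) :
    IsGen ((pb f).obj P) (f ⁻¹ᵁ U) (unitSec f P e) := by
  obtain ⟨φ, hφ⟩ := (isFreeOn_freeOn U P).2 e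
  simp only at hφ
  have hgen : IsGen (freeOn U) U (genSec U) := fun V hV => by
    have h1 : (fun y => (toStructure U).app V y) ∘ (fun a : Γ(Y, V) => a • rs (freeOn U) hV (genSec U)) =
        fun a => (show Γ(Coh.structureModule Y, V) from a) := funext fun a => by
      rw [Function.comp_apply, Scheme.Modules.Hom.app_smul, toStructure_rs_gen]
      exact (smul_one_eq a).symm
    refine (Function.Bijective.of_comp_iff'
      (bijective_app_of_isIso (isIso_app_of_isIso_restrict isIso_restrict_toStructure hV)) _).1 ?_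
    rw [h1]
    exact Function.bijective_id
  have hφi : IsIso ((rU U).map φ) := isIso_restrict_of_isIso_app fun V hV => by
    refine (ConcreteCategory.isIso_iff_bijective _).2 ((Function.Bijective.of_comp_iff _ (hgen V hV)).1 ?_)
    have h2 : φ.app V ∘ (fun a : Γ(Y, V) => a • rs (freeOn U) hV (genSec U)) = fun a => a • rs P hV e :=
      funext fun a => by rw [Function.comp_apply, Scheme.Modules.Hom.app_smul, ← rs_app, hφ]
    rw [h2]
    exact he V hV
  have h1 : IsGen ((pb f).obj (freeOn U)) (f ⁻¹ᵁ U) (unitSec f _ (genSec U)) := by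
    have h3 := isIso_pullback_restrict f (isIso_restrict_toStructure (U := U))
    intro V hV
    have h5 : ((pb f).map (toStructure U)).app V ∘ (fun a : Γ(X, V) => a • rs _ hV (unitSec f _ (genSec U))) =
        fun a => a • rs _ hV (unitSec f _ (one Y U)) := funext fun a => by
      rw [Function.comp_apply, Scheme.Modules.Hom.app_smul, ← rs_app, unit_natural_app, toStructure_gen]
    refine (Function.Bijective.of_comp_iff'
      (bijective_app_of_isIso (isIso_app_of_isIso_restrict h3 hV)) _).1 ?_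
    rw [h5]
    exact isGen_unitSec_one f U V hV
  have h6 := isGen_of_isIso_over (isIso_pullback_restrict f hφi) h1
  rwa [unit_natural_app, hφ] at h6

theorem sv_pullback {P : Y.Modules} (s : Coh.structureModule Y ⟶ P) (V : Y.Opens) :
    sv ((PicLoc.pullbackStructureIso f).inv ≫ (pb f).map s) (f ⁻¹ᵁ V) = unitSec f P (sv s V) := by
  rw [sv_comp, ← unit_natural_app]
  refine congrArg (((pb f).map s).app (f ⁻¹ᵁ V)) ?_
  refine (congrArg ((PicLoc.pullbackStructureIso f).inv.app (f ⁻¹ᵁ V)) (unitSec_one f V)).symm.trans ?_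
  exact congrArg (fun t => t.app (f ⁻¹ᵁ V) (unitSec f _ (one Y V))) (PicLoc.pullbackStructureIso f).hom_inv_id

theorem genLocus_pullback {P : Y.Modules} (hP : PicF.IsInvertible P) (s : Coh.structureModule Y ⟶ P)
    (e : Coh.structureModule X ≅ (pb f).obj (Coh.structureModule Y)) :
    CohB1.genLocus ((pb f).obj P) (e.hom ≫ (pb f).map s) = f ⁻¹ᵁ CohB1.genLocus P s := by
  have h0 : CohB1.genLocus ((pb f).obj P) (e.hom ≫ (pb f).map s) =
      CohB1.genLocus _ ((PicLoc.pullbackStructureIso f).inv ≫ (pb f).map s) := by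
    rw [← genLocus_iso_comp (e ≪≫ PicLoc.pullbackStructureIso f)
      ((PicLoc.pullbackStructureIso f).inv ≫ (pb f).map s)]
    simp
  rw [h0]
  have key : ∀ (U : Y.Opens) (e : Γ(P, U)), IsGen P U e →
      CohB1.genLocus _ ((PicLoc.pullbackStructureIso f).inv ≫ (pb f).map s) ⊓ f ⁻¹ᵁ U =
        f ⁻¹ᵁ (CohB1.genLocus P s ⊓ U) := by
    intro U e he
    obtain ⟨a, ha⟩ := exists_coord he (sv s U)
    rw [genLocus_inf_eq he s ha, Scheme.preimage_basicOpen]
    refine genLocus_inf_eq (isGen_unitSec f he) _ ?_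
    rw [sv_pullback, ha, unitSec_smul]
  apply Opens.ext
  apply Set.ext
  intro x
  obtain ⟨U, e, hx, he⟩ := isInvertible_iff.1 hP (f x)
  have h1 := SetLike.ext_iff.1 (key U e he) x
  exact ⟨fun h => (h1.1 ⟨h, hx⟩).1, fun h => (h1.2 ⟨h, hx⟩).1⟩

end Pullback

section Tensor

theorem pairM_id (U : X.Opens) (m : Γ(M, U)) (n : Γ(N, U)) :
    pairM (𝟙 (CohB1.tensorMod M N)) m n = SecTwist.tmul M N U m n := rfl

theorem tmul_smul {U : X.Opens} (a b : Γ(X, U)) (m : Γ(M, U)) (n : Γ(N, U)) :
    (SecTwist.tmul M N U (a • m) (b • n) : Γ(CohB1.tensorMod M N, U)) =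
      (a * b) • (SecTwist.tmul M N U m n : Γ(CohB1.tensorMod M N, U)) := by
  rw [← pairM_id, ← pairM_id, pairM_smul_left, pairM_smul_right, smul_smul]
  rfl

theorem rs_tmul {U V : X.Opens} (h : V ≤ U) (m : Γ(M, U)) (n : Γ(N, U)) :
    rs (CohB1.tensorMod M N) h (SecTwist.tmul M N U m n) = SecTwist.tmul M N V (rs M h m) (rs N h n) :=
  SecTwist.map_tmul M N (homOfLE h) m n

theorem isGen_tmul {U : X.Opens} {e : Γ(M, U)} {e' : Γ(N, U)} (he : IsGen M U e) (he' : IsGen N U e') :
    IsGen (CohB1.tensorMod M N) U (SecTwist.tmul M N U e e') := by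
  obtain ⟨i⟩ := exists_iso_of_gen he
  obtain ⟨j⟩ := exists_iso_of_gen he'
  obtain ⟨g, hg⟩ := exists_gen_of_iso (restrictTensorIso U.ι M N ≪≫ tensorIso i j ≪≫ leftUnit _)
  obtain ⟨c, hc⟩ := exists_coord hg (SecTwist.tmul M N U e e')
  have hcu : IsUnit c := by
    refine RingedSpace.isUnit_of_isUnit_germ _ U c fun x hx => ?_
    obtain ⟨hinj, hsurj⟩ := isLocBij_unit (CohB1.tensorPre M N)
    obtain ⟨(V : X.Opens), i', ⟨t, ht⟩, hxV⟩ := hsurj.imageSieve_mem g x hx
    let ee : Γ(CohB1.tensorMod M N, V) := SecTwist.tmul M N V (rs M i'.le e) (rs N i'.le e')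
    have hgV : rs _ i'.le g ∈ Submodule.span Γ(X, V) {ee} := by
      let Φ : (CohB1.tensorPre M N).obj (op V) →+ Γ(CohB1.tensorMod M N, V) :=
        ((SecTwist.toTensor M N).app (op V)).hom.toAddMonoidHom
      suffices hΦ : ∀ t, Φ t ∈ Submodule.span Γ(X, V) {ee} by
        rw [show rs _ i'.le g = Φ t from ht.symm]
        exact hΦ t
      intro t
      induction t using TensorProduct.induction_on with
      | zero => exact (map_zero Φ).symm ▸ Submodule.zero_mem _
      | tmul m n =>
        obtain ⟨a, ha⟩ := (he V i'.le).2 m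
        obtain ⟨b, hb⟩ := (he' V i'.le).2 n
        simp only at ha hb
        subst ha hb
        change (SecTwist.tmul M N V (a • rs M i'.le e) (b • rs N i'.le e') : Γ(CohB1.tensorMod M N, V)) ∈ _
        rw [tmul_smul]
        exact Submodule.smul_mem (Submodule.span Γ(X, V) {ee}) _ (Submodule.subset_span rfl)
      | add p q hp hq => exact (map_add Φ p q).symm ▸ Submodule.add_mem _ hp hq
    obtain ⟨d, hd⟩ := Submodule.mem_span_singleton.1 hgV
    simp only [ee] at hd
    rw [← rs_tmul, hc, rs_smul, smul_smul] at hd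
    have h1 : d * rf i'.le c = 1 := (hg V i'.le).1 (hd.trans (one_smul _ _).symm)
    have h2 : IsUnit (X.presheaf.germ V x hxV (rf i'.le c)) :=
      (IsUnit.of_mul_eq_one d ((mul_comm _ _).trans h1)).map _
    rwa [TopCat.Presheaf.germ_res_apply] at h2
  rw [hc]
  exact IsGen_smul_isUnit hg hcu

theorem genLocus_tmulHom {L' : X.Modules} (hL : PicF.IsInvertible L) (hL' : PicF.IsInvertible L')
    (f : Coh.structureModule X ⟶ L) (g : Coh.structureModule X ⟶ L') :
    CohB1.genLocus (CohB1.tensorMod L L') (SecTwist.tmulHom f g) =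
      CohB1.genLocus L f ⊓ CohB1.genLocus L' g := by
  apply Opens.ext
  apply Set.ext
  intro x
  obtain ⟨U₁, e, hx₁, he⟩ := isInvertible_iff.1 hL x
  obtain ⟨U₂, e', hx₂, he'⟩ := isInvertible_iff.1 hL' x
  have hU := he.res (inf_le_left : U₁ ⊓ U₂ ≤ U₁)
  have hU' := he'.res (inf_le_right : U₁ ⊓ U₂ ≤ U₂)
  obtain ⟨a, ha⟩ := exists_coord hU (sv f _)
  obtain ⟨b, hb⟩ := exists_coord hU' (sv g _)
  have hab : sv (SecTwist.tmulHom f g) (U₁ ⊓ U₂) =
      (a * b) • (SecTwist.tmul L L' (U₁ ⊓ U₂) (rs L inf_le_left e) (rs L' inf_le_right e') :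
        Γ(CohB1.tensorMod L L', U₁ ⊓ U₂)) := by
    rw [← tmul_smul, ← ha, ← hb]
    exact SecTwist.val_tmulHom f g _
  have h1 := SetLike.ext_iff.1 (genLocus_inf_eq (isGen_tmul hU hU') _ hab) x
  rw [Scheme.basicOpen_mul, ← genLocus_inf_eq hU f ha, ← genLocus_inf_eq hU' g hb] at h1
  exact ⟨fun h => ⟨(h1.1 ⟨h, hx₁, hx₂⟩).1.1, (h1.1 ⟨h, hx₁, hx₂⟩).2.1⟩,
    fun h => (h1.2 ⟨⟨h.1, hx₁, hx₂⟩, h.2, hx₁, hx₂⟩).1⟩

theorem genLocus_powHom (hL : PicF.IsInvertible L) (s : Coh.structureModule X ⟶ L) :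
    ∀ n : ℕ, 0 < n → CohB1.genLocus (CohB1.tensorPow L n) (SecTwist.powHom s n) = CohB1.genLocus L s
  | 0, h => absurd h (lt_irrefl 0)
  | n + 1, _ => by
    change CohB1.genLocus (CohB1.tensorMod (CohB1.tensorPow L n) L) (SecTwist.tmulHom (SecTwist.powHom s n) s) = _
    rw [genLocus_tmulHom (Invertible.isInvertible_tensorPow hL n) hL]
    rcases Nat.eq_zero_or_pos n with rfl | hn
    · exact inf_eq_right.2 (by
        change _ ≤ CohB1.genLocus _ (𝟙 (Coh.structureModule X))
        rw [genLocus_id]; exact le_top)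
    · rw [genLocus_powHom hL s n hn, inf_idem]

end Tensor

end Groth.Agent.Lib.Ample.GenLocus
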