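import Groth.Agent.Lib.Ample.GG
import Groth.Prelude.Def_Mor2
import Mathlib.AlgebraicGeometry.QuasiAffine
import Mathlib.Topology.Constructible

/-!
# Quasi-affine loci; pull-back by quasi-affine morphisms
-/

noncomputable section

universe u

open CategoryTheory CategoryTheory.Limits AlgebraicGeometry Opposite TopologicalSpace

namespace Groth.Agent.Lib.Ample.Pullback

open TensorMod TensorMod.Pullback GenLocus Pow Basis GG

variable {X Y : Scheme.{u}} {L : X.Modules}

/-- Some positive power of `L` has a section whose locus is a quasi-affine neighbourhood of `x`. -/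
def QAffAt (L : X.Modules) (x : X) : Prop :=
  ∃ n : ℕ, 0 < n ∧ ∃ s : Coh.structureModule X ⟶ CohB1.tensorPow L n,
    x ∈ CohB1.genLocus _ s ∧ Scheme.IsQuasiAffine (CohB1.genLocus _ s : Scheme.{u})

theorem QAffAt.of_affineAt {x : X} (h : AffineAt L x) : QAffAt L x := by
  obtain ⟨n, hn, s, hx, hs⟩ := h
  haveI : IsAffine (CohB1.genLocus _ s : Scheme.{u}) := hs
  exact ⟨n, hn, s, hx, inferInstance⟩

theorem quasiSeparatedSpace_of_qAffAt (hL : PicF.IsInvertible L) (h : ∀ x, QAffAt L x) :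
    QuasiSeparatedSpace X := by
  choose n hn s hx hs using h
  refine QuasiSeparatedSpace.of_isOpenCover (U := fun x => CohB1.genLocus _ (s x))
    (top_le_iff.1 fun x _ => Opens.mem_iSup.2 ⟨x, hx x⟩) (fun x => ?_) fun x => ?_
  · haveI := isAffineHom_genLocus (Invertible.isInvertible_tensorPow hL (n x)) (s x)
    exact IsRetrocompact_iff_isSpectralMap_subtypeVal.mpr (CohB1.genLocus _ (s x)).ι.isSpectralMap
  · haveI := hs x
    refine (isQuasiSeparated_iff_quasiSeparatedSpace _ (CohB1.genLocus _ (s x)).isOpen).2 ?_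
    exact inferInstanceAs (QuasiSeparatedSpace (CohB1.genLocus _ (s x) : Scheme.{u}))

theorem quasiSeparatedSpace_of_isAmple (hL : CohB1.IsAmple L) : QuasiSeparatedSpace X :=
  quasiSeparatedSpace_of_qAffAt hL.1 fun x => .of_affineAt ((isAmple_iff.1 hL).2.2 x)

/-- Quasi-affine loci suffice for ampleness. -/
theorem isAmple_of_qAffAt [CompactSpace X] (hL : PicF.IsInvertible L) (h : ∀ x, QAffAt L x) :
    CohB1.IsAmple L := by
  haveI := quasiSeparatedSpace_of_qAffAt hL h
  refine isAmple_iff.2 ⟨hL, inferInstance, fun x => ?_⟩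
  obtain ⟨n, hn, s, hx, hs⟩ := h x
  let G := CohB1.genLocus _ s
  haveI : Scheme.IsQuasiAffine (G : Scheme.{u}) := hs
  obtain ⟨_, ⟨_, ⟨r, hr, rfl⟩, rfl⟩, hxr, -⟩ := (Scheme.IsQuasiAffine.isBasis_basicOpen
    (G : Scheme.{u})).exists_subset_of_mem_open (Set.mem_univ (⟨x, hx⟩ : G)) isOpen_univ
  have himg : G.ι ''ᵁ (G : Scheme.{u}).basicOpen r = X.basicOpen (G.topIso.hom r) := by
    refine Eq.trans ?_ (Scheme.Opens.ι_image_basicOpen_topIso_inv G (G.topIso.hom r))
    rw [Iso.hom_inv_id_apply]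
  obtain ⟨m, hm, t, ht⟩ := exists_sec_basicOpen (Invertible.isInvertible_tensorPow hL n) s (G.topIso.hom r)
  refine AffineAt.mk (Nat.mul_pos hn hm) (powMul L n m) t ?_ ?_
  · rw [ht, ← himg]
    exact ⟨⟨x, hx⟩, hxr, rfl⟩
  · rw [ht, ← himg]
    exact hr.image_of_isOpenImmersion G.ι

theorem qAffAt_pullback (g : Y ⟶ X) (hg : Mor2.IsQuasiAffine g) (hL : PicF.IsInvertible L) {y : Y}
    (h : AffineAt L (g y)) : QAffAt ((pb g).obj L) y := by
  obtain ⟨n, hn, s, hx, hs⟩ := h
  let e := (PicLoc.pullbackStructureIso g).symm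
  refine ⟨n, hn, (e.hom ≫ (pb g).map s) ≫ (pullbackPow g L n).hom, ?_, ?_⟩
  · rw [genLocus_comp_iso, genLocus_pullback g (Invertible.isInvertible_tensorPow hL n)]
    exact hx
  · rw [genLocus_comp_iso, genLocus_pullback g (Invertible.isInvertible_tensorPow hL n)]
    exact hg.2 _ hs

theorem isAmple_pullback (g : Y ⟶ X) (hg : Mor2.IsQuasiAffine g) (hL : CohB1.IsAmple L) :
    CohB1.IsAmple ((pb g).obj L) := by
  obtain ⟨hi, hc, hx⟩ := isAmple_iff.1 hL
  haveI := hg.1
  haveI : CompactSpace Y := QuasiCompact.compactSpace_of_compactSpace g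
  exact isAmple_of_qAffAt (PicLoc.isInvertible_pullback g hi) fun y => qAffAt_pullback g hg hi (hx _)

theorem isQuasiAffine_of_isAffineHom (g : Y ⟶ X) [IsAffineHom g] : Mor2.IsQuasiAffine g :=
  ⟨inferInstance, fun V hV => by
    haveI : IsAffine (g ⁻¹ᵁ V : Scheme.{u}) := hV.preimage g
    infer_instance⟩

end Groth.Agent.Lib.Ample.Pullback
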