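import Groth.Agent.Lib.Ample.Pow
import Groth.Agent.Lib.QCoh.Localizing

/-!
# Sections over the locus of `s` extend after multiplication by a power of `s`
-/

noncomputable section

universe u

open CategoryTheory CategoryTheory.Limits AlgebraicGeometry Opposite TopologicalSpace

namespace Groth.Agent.Lib.Ample.Extend

open TensorMod TensorMod.Basic TensorMod.Free TensorMod.Dual TensorMod.Gen TensorMod.Pullback GenLocus

variable {X : Scheme.{u}} {L F : X.Modules}

/-- Powers of a section, with values typed as sections. -/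
def powSec {U : X.Opens} (e : Γ(L, U)) : ∀ n : ℕ, Γ(CohB1.tensorPow L n, U)
  | 0 => one X U
  | n + 1 => SecTwist.tmul (CohB1.tensorPow L n) L U (powSec e n) e

theorem rs_powSec {U V : X.Opens} (h : V ≤ U) (e : Γ(L, U)) :
    ∀ n, rs (CohB1.tensorPow L n) h (powSec e n) = powSec (rs L h e) n
  | 0 => map_one (X.presheaf.map (homOfLE h).op).hom
  | n + 1 => (rs_tmul h _ _).trans (by rw [rs_powSec h e n]; rfl)

theorem powSec_smul {U : X.Opens} (a : Γ(X, U)) (e : Γ(L, U)) :
    ∀ n, powSec (a • e) n = a ^ n • powSec e n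
  | 0 => by rw [pow_zero, one_smul]; rfl
  | n + 1 => by
    change (SecTwist.tmul (CohB1.tensorPow L n) L U (powSec (a • e) n) (a • e) : Γ(CohB1.tensorPow L (n + 1), U)) = _
    rw [powSec_smul a e n, pow_succ]
    exact tmul_smul (a ^ n) a (powSec e n) e

theorem isGen_powSec {U : X.Opens} {e : Γ(L, U)} (he : IsGen L U e) :
    ∀ n, IsGen (CohB1.tensorPow L n) U (powSec e n)
  | 0 => isGen_one U
  | n + 1 => isGen_tmul (isGen_powSec he n) he

theorem pow_eq_powSec (s : Coh.structureModule X ⟶ L) (U : X.Opens) :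
    ∀ n, (SecTwist.pow s n U : Γ(CohB1.tensorPow L n, U)) = powSec (sv s U) n
  | 0 => rfl
  | n + 1 => congrArg (fun q => SecTwist.tmul (CohB1.tensorPow L n) L U q (SecTwist.val s U)) (pow_eq_powSec s U n)

abbrev tw (s : Coh.structureModule X ⟶ L) (n : ℕ) {U : X.Opens} (t : Γ(F, U)) :
    Γ(CohB1.tensorMod F (CohB1.tensorPow L n), U) := SecTwist.twist s n F U t

/-- `t ⊗ (a e)^n = (a^n t) ⊗ e^n`. -/
theorem twist_eq {U : X.Opens} {s : Coh.structureModule X ⟶ L} {a : Γ(X, U)} {e : Γ(L, U)}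
    (ha : sv s U = a • e) (n : ℕ) (t : Γ(F, U)) :
    tw s n t =
      SecTwist.tmul F (CohB1.tensorPow L n) U (a ^ n • t) (powSec e n) := by
  have h1 : (SecTwist.twist s n F U t : Γ(CohB1.tensorMod F (CohB1.tensorPow L n), U)) =
      SecTwist.tmul F (CohB1.tensorPow L n) U t (powSec (sv s U) n) :=
    congrArg (SecTwist.tmul F (CohB1.tensorPow L n) U t) (pow_eq_powSec s U n)
  rw [tw, h1, ha, powSec_smul, ← pairM_id, ← pairM_id, pairM_smul_left, pairM_smul_right]

theorem rs_twist (s : Coh.structureModule X ⟶ L) (n : ℕ) {U V : X.Opens} (h : V ≤ U) (t : Γ(F, U)) :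
    rs _ h (tw s n t) = tw s n (rs F h t) :=
  SecTwist.map_twist s n F (homOfLE h) t

theorem exists_affine_frames [CompactSpace X] (hL : PicF.IsInvertible L) :
    ∃ (N : ℕ) (V : Fin N → X.Opens) (e : ∀ i, Γ(L, V i)),
      (∀ i, IsAffineOpen (V i)) ∧ (∀ i, IsGen L (V i) (e i)) ∧ iSup V = ⊤ := by
  have h : ∀ x : X, ∃ V : X.Opens, x ∈ V ∧ IsAffineOpen V ∧ ∃ e : Γ(L, V), IsGen L V e := fun x => by
    obtain ⟨U, e, hx, he⟩ := isInvertible_iff.1 hL x
    obtain ⟨V, hV, hxV, hle⟩ := exists_isAffineOpen_mem_and_subset (U := U) hx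
    exact ⟨V, hxV, hV, _, he.res hle⟩
  choose V hx hV e he using h
  obtain ⟨t, ht⟩ := isCompact_univ.elim_finite_subcover (fun x => (V x : Set X)) (fun x => (V x).isOpen)
    fun x _ => Set.mem_iUnion.2 ⟨x, hx x⟩
  refine ⟨t.card, fun i => V (t.equivFin.symm i), fun i => e _, fun i => hV _, fun i => he _, top_le_iff.1 fun x _ => ?_⟩
  obtain ⟨y, hy, hxy⟩ := Set.mem_iUnion₂.1 (ht (Set.mem_univ x))
  exact Opens.mem_iSup.2 ⟨t.equivFin ⟨y, hy⟩, by simpa using hxy⟩

/-- A global section vanishing on the locus of `s` is killed by a power of `s`. -/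
theorem exists_twist_eq_zero [CompactSpace X] [F.IsQuasicoherent] (hL : PicF.IsInvertible L)
    (s : Coh.structureModule X ⟶ L) (t : Γ(F, ⊤))
    (ht : rs F (le_top : CohB1.genLocus L s ≤ ⊤) t = 0) :
    ∃ n : ℕ, 0 < n ∧ tw s n t = 0 := by
  obtain ⟨N, V, e, hV, he, hcov⟩ := exists_affine_frames hL
  choose a ha using fun i => exists_coord (he i) (sv s (V i))
  have h1 : ∀ i, ∀ᶠ n in Filter.atTop, a i ^ n • rs F (le_top : V i ≤ ⊤) t = 0 := fun i => by
    have h0 : rs F (X.basicOpen_le (a i)) (rs F (le_top : V i ≤ ⊤) t) = 0 := by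
      have hle : X.basicOpen (a i) ≤ CohB1.genLocus L s := by
        rw [← genLocus_inf_eq (he i) s (ha i)]; exact inf_le_left
      rw [rs_rs, ← rs_rs F le_top hle t, ht]
      exact map_zero (F.presheaf.map (homOfLE hle).op).hom
    obtain ⟨m, hm⟩ := QCoh.Localizing.exists_pow_smul_eq_zero_of_isCompact F (hV i).isCompact (a i) _ h0
    refine Filter.eventually_atTop.2 ⟨m, fun n hn => ?_⟩
    rw [← Nat.sub_add_cancel hn, pow_add, mul_smul, hm, smul_zero]
  obtain ⟨n, hn⟩ := ((Filter.eventually_all.2 h1).and (Filter.eventually_ge_atTop 1)).exists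
  refine ⟨n, hn.2, ?_⟩
  refine TopCat.Sheaf.eq_of_locally_eq'
    (⟨_, (CohB1.tensorMod F (CohB1.tensorPow L n)).isSheaf⟩ : TopCat.Sheaf Ab.{u} X) V ⊤
    (fun i => homOfLE le_top) hcov.ge _ _ fun i => ?_
  change rs _ (le_top : V i ≤ ⊤) _ = rs _ le_top 0
  rw [rs_twist, twist_eq (ha i), hn.1 i, ← pairM_id]
  refine Eq.trans ?_ (map_zero _).symm
  exact (congrArg (fun z => pairM (𝟙 (CohB1.tensorMod F (CohB1.tensorPow L n))) z (powSec (e i) n))
    (zero_smul Γ(X, V i) (0 : Γ(F, V i))).symm).trans ((pairM_smul_left _ _ _ _).trans (zero_smul _ _))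

/-- A section over the locus of `s`, times any large power of `s`, extends. -/
theorem eventually_extension [CompactSpace X] [QuasiSeparatedSpace X] [F.IsQuasicoherent]
    (hL : PicF.IsInvertible L) (s : Coh.structureModule X ⟶ L) (t : Γ(F, CohB1.genLocus L s)) :
    ∀ᶠ n in Filter.atTop, ∃ t' : Γ(CohB1.tensorMod F (CohB1.tensorPow L n), ⊤),
      rs _ (le_top : CohB1.genLocus L s ≤ ⊤) t' = tw s n t := by
  obtain ⟨N, V, e, hV, he, hcov⟩ := exists_affine_frames hL
  choose a ha using fun i => exists_coord (he i) (sv s (V i))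
  have hG : ∀ i, X.basicOpen (a i) ≤ CohB1.genLocus L s := fun i => by
    rw [← genLocus_inf_eq (he i) s (ha i)]; exact inf_le_left
  -- local extensions
  have hext : ∀ i, ∀ᶠ n in Filter.atTop, ∃ y : Γ(F, V i),
      rs F (X.basicOpen_le (a i)) y = rf (X.basicOpen_le (a i)) (a i) ^ n • rs F (hG i) t := fun i => by
    obtain ⟨m, y, hy⟩ := (QCoh.Localizing.localizes_of_isAffineOpen F (hV i) (a i)).ext' (rs F (hG i) t)
    refine Filter.eventually_atTop.2 ⟨m, fun n hn => ⟨a i ^ (n - m) • y, ?_⟩⟩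
    rw [rs_smul, show rs F (X.basicOpen_le (a i)) y = _ from hy, smul_smul]
    congr 1
    change rf (X.basicOpen_le (a i)) (a i ^ (n - m)) * rf (X.basicOpen_le (a i)) (a i) ^ m = _
    rw [rf, map_pow, ← pow_add, Nat.sub_add_cancel hn]
  obtain ⟨n, hn, hn1⟩ := ((Filter.eventually_all.2 hext).and (Filter.eventually_ge_atTop 1)).exists
  choose y hy using hn
  -- transition functions
  choose u hu using fun i j => exists_coord ((he i).res (inf_le_left : V i ⊓ V j ≤ V i)) (rs L inf_le_right (e j))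
  have hau : ∀ i j, rf (inf_le_left : V i ⊓ V j ≤ V i) (a i) = rf inf_le_right (a j) * u i j := fun i j => by
    refine ((he i).res inf_le_left (V i ⊓ V j) le_rfl).1 ?_
    simp only [rs_self]
    rw [← rs_smul, ← ha, rs_sv, mul_smul, ← hu, ← rs_smul, ← ha, rs_sv]
  have hdiff : ∀ p : Fin N × Fin N, ∀ᶠ m in Filter.atTop,
      rf (inf_le_left : V p.1 ⊓ V p.2 ≤ V p.1) (a p.1) ^ m •
        (rs F inf_le_left (y p.1) - u p.1 p.2 ^ n • rs F inf_le_right (y p.2)) = 0 := by
    rintro ⟨i, j⟩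
    let W := V i ⊓ V j
    let D := X.basicOpen (rf (inf_le_left : W ≤ V i) (a i))
    have hDi : D ≤ X.basicOpen (a i) := (X.basicOpen_res (a i) (homOfLE inf_le_left).op).trans_le inf_le_right
    have hDW : D ≤ W := X.basicOpen_le _
    have hDj : D ≤ X.basicOpen (a j) := by
      intro x hx
      have h2 : x ∈ X.basicOpen (rf (inf_le_right : W ≤ V j) (a j) * u i j) := hau i j ▸ hx
      rw [Scheme.basicOpen_mul] at h2
      exact ((X.basicOpen_res (a j) (homOfLE inf_le_right).op).trans_le inf_le_right) h2.1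
    have hzero : rs F hDW (rs F inf_le_left (y i) - u i j ^ n • rs F inf_le_right (y j)) = 0 := by
      have hsub : rs F hDW (rs F inf_le_left (y i) - u i j ^ n • rs F inf_le_right (y j)) =
          rs F hDW (rs F inf_le_left (y i)) - rs F hDW (u i j ^ n • rs F inf_le_right (y j)) :=
        map_sub (F.presheaf.map (homOfLE hDW).op).hom _ _
      rw [hsub, sub_eq_zero, rs_smul, rs_rs, rs_rs, ← rs_rs F (X.basicOpen_le (a i)) hDi,
        ← rs_rs F (X.basicOpen_le (a j)) hDj, hy, hy, rs_smul, rs_smul, rs_rs, rs_rs, smul_smul]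
      congr 1
      simp only [rf, map_pow]
      rw [← mul_pow]
      congr 1
      have h3 := congrArg (rf hDW) (hau i j)
      simp only [rf, map_mul] at h3
      simp only [← rf.eq_def, rf_rf] at h3 ⊢
      rw [mul_comm]
      exact h3
    obtain ⟨m, hm⟩ := QCoh.Localizing.exists_pow_smul_eq_zero_of_isCompact F
      (show IsCompact ((V i ⊓ V j : X.Opens) : Set X) from QuasiSeparatedSpace.inter_isCompact _ _
        (V i).isOpen (hV i).isCompact (V j).isOpen (hV j).isCompact)
      (rf (inf_le_left : W ≤ V i) (a i)) _ hzero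
    refine Filter.eventually_atTop.2 ⟨m, fun k hk => ?_⟩
    change rf (inf_le_left : W ≤ V i) (a i) ^ k • (rs F inf_le_left (y i) - u i j ^ n • rs F inf_le_right (y j)) = 0
    rw [← Nat.sub_add_cancel hk, pow_add, mul_smul, hm, smul_zero]
  obtain ⟨m₀, hm₀⟩ := Filter.eventually_atTop.1 (Filter.eventually_all.2 hdiff)
  refine Filter.eventually_atTop.2 ⟨n + m₀, fun k hk => ?_⟩
  obtain ⟨m, hmk, rfl⟩ : ∃ m, m₀ ≤ m ∧ n + m = k := ⟨k - n, by omega, by omega⟩
  have hm := hm₀ m hmk
  let P := CohB1.tensorMod F (CohB1.tensorPow L (n + m))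
  let τ : ∀ i, Γ(P, V i) := fun i => SecTwist.tmul F _ (V i) (a i ^ m • y i) (powSec (e i) (n + m))
  have hτ : TopCat.Presheaf.IsCompatible P.presheaf V τ := fun i j => by
    change rs P (inf_le_left : V i ⊓ V j ≤ V i) (τ i) = rs P (inf_le_right : V i ⊓ V j ≤ V j) (τ j)
    have h1 := hm (i, j)
    rw [smul_sub, sub_eq_zero, smul_smul] at h1
    simp only [τ]
    rw [rs_tmul, rs_tmul, rs_powSec, rs_powSec, hu i j, powSec_smul, rs_smul, rs_smul]
    simp only [← pairM_id]
    rw [pairM_smul_right, ← pairM_smul_left]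
    congr 1
    simp only [rf, map_pow]
    refine h1.trans ?_
    rw [smul_smul]
    congr 1
    change rf (inf_le_left : V i ⊓ V j ≤ V i) (a i) ^ m * u i j ^ n =
      u i j ^ (n + m) * rf (inf_le_right : V i ⊓ V j ≤ V j) (a j) ^ m
    rw [hau i j]
    ring
  obtain ⟨t', ht', -⟩ := TopCat.Sheaf.existsUnique_gluing' (⟨P.presheaf, P.isSheaf⟩ : TopCat.Sheaf Ab.{u} X)
    V ⊤ (fun i => homOfLE le_top) hcov.ge τ hτ
  refine ⟨t', ?_⟩
  refine HomGlue.sections_ext_cover V P (by rw [hcov]; exact le_top) fun i => ?_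
  have hGi : CohB1.genLocus L s ⊓ V i = X.basicOpen (a i) := genLocus_inf_eq (he i) s (ha i)
  rw [rs_rs, ← rs_rs P le_top inf_le_right, show rs P (le_top : V i ≤ ⊤) t' = τ i from ht' i,
    rs_twist, twist_eq (a := rf inf_le_right (a i)) (e := rs L inf_le_right (e i))
      (by rw [← rs_sv s (inf_le_right : CohB1.genLocus L s ⊓ V i ≤ V i), ha, rs_smul])]
  simp only [τ]
  rw [rs_tmul, rs_powSec, rs_smul]
  congr 1
  have hy' := congrArg (rs F hGi.le) (hy i)
  rw [rs_smul, rs_rs, rs_rs] at hy'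
  rw [hy', smul_smul]
  congr 1
  simp only [rf, map_pow]
  rw [← rf, ← rf, ← rf, rf_rf, ← pow_add, add_comm n m]

/-- A section over the locus of `s`, times some positive power of `s`, extends. -/
theorem exists_extension [CompactSpace X] [QuasiSeparatedSpace X] [F.IsQuasicoherent]
    (hL : PicF.IsInvertible L) (s : Coh.structureModule X ⟶ L) (t : Γ(F, CohB1.genLocus L s)) :
    ∃ n : ℕ, 0 < n ∧ ∃ t' : Γ(CohB1.tensorMod F (CohB1.tensorPow L n), ⊤),
      rs _ (le_top : CohB1.genLocus L s ≤ ⊤) t' = tw s n t := by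
  obtain ⟨n, hn, hn1⟩ := ((eventually_extension hL s t).and (Filter.eventually_ge_atTop 1)).exists
  exact ⟨n, hn1, hn⟩

end Groth.Agent.Lib.Ample.Extend
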