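import Groth.Agent.Lib.Ample.GG
import Groth.Agent.Lib.Lim.IdealExt
import Groth.Agent.Lib.ClSub.Sections
import Groth.Agent.Lib.ClSub.Quot
import Groth.Agent.Lib.QCoh.Closure
import Groth.Agent.Lib.QCoh.Pushforward
import Groth.Agent.H34.GlobGen
import Mathlib.AlgebraicGeometry.QuasiAffine

/-!
# Quasi-affineness from global generation of the ideals of finite type
-/

noncomputable section

universe u

open CategoryTheory CategoryTheory.Limits AlgebraicGeometry Opposite TopologicalSpace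

namespace Groth.Agent.Lib.Ample.QAffCrit

open Modules.StalkModule TensorMod TensorMod.Dual

variable {X : Scheme.{u}}

theorem isQCoh_idealMod (K : X.IdealSheafData) : (_root_.ClSub.idealMod K).IsQuasicoherent := by
  haveI : ((_root_.ClSub.quotMod K) : X.Modules).IsQuasicoherent := by
    haveI := TensorMod.QCohInv.isQCoh_structureModule K.subscheme
    exact QCoh.Pushforward.isQCoh_pushforward K.subschemeι (M := Coh.structureModule K.subscheme)
  haveI := TensorMod.QCohInv.isQCoh_structureModule X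
  exact QCoh.Closure.isQCoh_kernel (_root_.ClSub.toSubscheme K)

theorem isFT_idealMod (K : X.IdealSheafData) (hK : Lim.IdealExt.IsFG K) : CohB1.IsFT (_root_.ClSub.idealMod K) := by
  haveI := isQCoh_idealMod K
  refine CohBasics.Affine.isFiniteType_of_finite_sections fun x => ?_
  obtain ⟨U, hU, hxU, -⟩ := exists_isAffineOpen_mem_and_subset (X := X) (x := x) (U := ⊤) (GG.memTop x)
  obtain ⟨S, hS⟩ := hK ⟨U, hU⟩
  have hS' : ∀ t ∈ S, ∃ m : Γ(_root_.ClSub.idealMod K, U), (_root_.ClSub.idealModι K).app U m = t := fun t ht =>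
    (ClSub.Sections.mem_range_idealModι_app_affine_iff K ⟨U, hU⟩ t).2 (hS ▸ Submodule.subset_span ht)
  choose m hm using hS'
  refine ⟨U, hU, hxU, ⟨Submodule.fg_def.2 ⟨Set.range fun t : S => m t.1 t.2, Set.finite_range _,
    eq_top_iff.2 fun z _ => ?_⟩⟩⟩
  have hz : (_root_.ClSub.idealModι K).app U z ∈ Ideal.span (S : Set Γ(X, U)) :=
    hS.ge ((ClSub.Sections.mem_range_idealModι_app_affine_iff K ⟨U, hU⟩ _).1 ⟨z, rfl⟩)
  suffices ∀ v ∈ Ideal.span (S : Set Γ(X, U)), ∀ z, (_root_.ClSub.idealModι K).app U z = v →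
      z ∈ Submodule.span Γ(X, U) (Set.range fun t : S => m t.1 t.2) from this _ hz z rfl
  intro v hv
  obtain ⟨c, hc⟩ := Submodule.mem_span_finset.1 hv
  intro z hzv
  have he : z = ∑ t : S, c t.1 • m t.1 t.2 := by
    refine ClSub.Sections.idealModι_app_injective K U ?_
    rw [hzv, map_sum, ← hc.2, ← Finset.sum_coe_sort S]
    refine Finset.sum_congr rfl fun t _ => ?_
    rw [((_root_.ClSub.idealModι K).app_smul (c t.1) (m t.1 t.2) : _), hm]
    rfl
  rw [he]
  exact Submodule.sum_mem _ fun t _ => Submodule.smul_mem _ _ (Submodule.subset_span ⟨t, rfl⟩)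

/-- The structure module at a point. -/
theorem Support.smul_one_germ (X : Scheme.{u}) {V : X.Opens} {x : X} (hx : x ∈ V) (a : Γ(X, ⊤)) :
    X.presheaf.germ ⊤ x (GG.memTop x) a • ((Coh.structureModule X).presheaf.germ V x hx (1 : Γ(X, V))) =
      (Coh.structureModule X).presheaf.germ ⊤ x (GG.memTop x) a := by
  have h1 : GG.gm (M := Coh.structureModule X) hx (rs (Coh.structureModule X) le_top (1 : Γ(X, ⊤))) =
      GG.gm (M := Coh.structureModule X) (GG.memTop x) (1 : Γ(X, ⊤)) := GG.gm_rs _ _ _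
  have h2 : rs (Coh.structureModule X) (le_top : V ≤ ⊤) (1 : Γ(X, ⊤)) = (1 : Γ(X, V)) :=
    map_one (X.presheaf.map (homOfLE (le_top : V ≤ ⊤)).op).hom
  rw [h2] at h1
  change GG.gm (M := Coh.structureModule X) hx (1 : Γ(X, V)) = _ at h1
  refine (congrArg (X.presheaf.germ ⊤ x (GG.memTop x) a • ·) h1).trans ?_
  rw [← GG.gm_smul]
  exact congrArg _ (mul_one a)

theorem Support.isUnit_of_smul_one (X : Scheme.{u}) {V : X.Opens} {x : X} (hx : x ∈ V) (c : X.presheaf.stalk x)
    (h : c • ((Coh.structureModule X).presheaf.germ V x hx (1 : Γ(X, V))) =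
      (Coh.structureModule X).presheaf.germ V x hx (1 : Γ(X, V))) : IsUnit c := by
  by_contra hu
  have h0 : (Coh.structureModule X).presheaf.germ V x hx (1 : Γ(X, V)) = 0 :=
    (IsUnit.smul_eq_zero (IsLocalRing.isUnit_one_sub_self_of_mem_nonunits c hu)).1
      (by rw [sub_smul, one_smul, h, sub_self])
  obtain ⟨W, hxW, i, j, e⟩ := TopCat.Presheaf.germ_eq (Coh.structureModule X).presheaf x hx hx (1 : Γ(X, V)) 0
    (h0.trans (map_zero _).symm)
  have h1 : (1 : Γ(X, W)) = 0 := (map_one (X.presheaf.map i.op).hom).symm.trans (e.trans (map_zero _))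
  exact one_ne_zero ((map_one (X.presheaf.germ W x hxW).hom).symm.trans ((congrArg _ h1).trans (map_zero _)))

theorem main [CompactSpace X] [QuasiSeparatedSpace X]
    (h : ∀ (J : X.Modules) (i : J ⟶ Coh.structureModule X), Mono i → Coh.IsQCoh J → CohB1.IsFT J →
      Curv2.IsGloballyGenerated J) : X.IsQuasiAffine := by
  refine Scheme.IsQuasiAffine.of_forall_exists_mem_basicOpen X fun x => ?_
  obtain ⟨V, hV, hxV, -⟩ := exists_isAffineOpen_mem_and_subset (X := X) (x := x) (U := ⊤) (GG.memTop x)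
  let Z : TopologicalSpace.Closeds X := ⟨(V : Set X)ᶜ, V.isOpen.isClosed_compl⟩
  let I := Scheme.IdealSheafData.vanishingIdeal Z
  have hIV : I.ideal ⟨V, hV⟩ = ⊤ := by
    rw [Scheme.IdealSheafData.vanishingIdeal_ideal]
    have he : hV.fromSpec ⁻¹' (Z : Set X) = ∅ := Set.eq_empty_iff_forall_notMem.2 fun p hp => hp (by
      have h := Set.mem_range_self (f := hV.fromSpec) p
      rwa [hV.range_fromSpec] at h)
    exact (congrArg PrimeSpectrum.vanishingIdeal he).trans PrimeSpectrum.vanishingIdeal_empty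
  obtain ⟨J, hJI, hJ, hJV⟩ := Lim.IdealExt.exists_isFG_le I ⟨V, hV⟩ ⊤ ⟨{1}, by simp⟩ hIV.ge
  have hgg := h _ (_root_.ClSub.idealModι J) (ClSub.Quot.mono_idealModι J) (isQCoh_idealMod J) (isFT_idealMod J hJ)
  -- a global function which is a unit at `x`
  obtain ⟨m₁, hm₁⟩ := (ClSub.Sections.mem_range_idealModι_app_affine_iff J ⟨V, hV⟩ 1).2
    (hJV ▸ Submodule.mem_top)
  have hex : ∃ m : Γ(_root_.ClSub.idealMod J, ⊤), x ∈ X.basicOpen ((_root_.ClSub.idealModι J).app ⊤ m : Γ(X, ⊤)) := by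
    by_contra hno
    push_neg at hno
    have hle : Groth.Agent.H34.GlobGen.Gl (_root_.ClSub.idealMod J) x ≤
        Submodule.comap (stalkMapₗ (_root_.ClSub.idealModι J) x)
          (Submodule.map (LinearMap.toSpanSingleton _ _ ((Coh.structureModule X).presheaf.germ V x hxV (1 : Γ(X, V))))
            (IsLocalRing.maximalIdeal (X.presheaf.stalk x))) := by
      rw [Groth.Agent.H34.GlobGen.Gl, Submodule.span_le]
      rintro _ ⟨m, rfl⟩
      refine ⟨X.presheaf.germ ⊤ x (GG.memTop x) ((_root_.ClSub.idealModι J).app ⊤ m : Γ(X, ⊤)),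
        (IsLocalRing.mem_maximalIdeal _).2 fun hu => hno m ((Scheme.mem_basicOpen _ _ x (GG.memTop x)).2 hu), ?_⟩
      rw [LinearMap.toSpanSingleton_apply]
      refine Eq.trans ?_ (stalkMapₗ_germ (_root_.ClSub.idealModι J) (U := ⊤) (GG.memTop x) m).symm
      exact Support.smul_one_germ X hxV _
    have h1 := hle ((Groth.Agent.H34.GlobGen.gl_eq_top_of_gg hgg x).ge
      (Submodule.mem_top (x := (_root_.ClSub.idealMod J).presheaf.germ V x hxV m₁)))
    rw [Submodule.mem_comap, stalkMapₗ_germ, hm₁] at h1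
    obtain ⟨c, hc, hce⟩ := h1
    rw [LinearMap.toSpanSingleton_apply] at hce
    exact (IsLocalRing.mem_maximalIdeal _).1 hc (Support.isUnit_of_smul_one X hxV c hce)
  obtain ⟨m, hm⟩ := hex
  let f : Γ(X, ⊤) := (_root_.ClSub.idealModι J).app ⊤ m
  have hfV : X.basicOpen f ≤ V := fun y hy => by
    by_contra hyV
    obtain ⟨U, hU, hyU, -⟩ := exists_isAffineOpen_mem_and_subset (X := X) (x := y) (U := ⊤) (GG.memTop y)
    have hmem : X.presheaf.map (homOfLE (le_top : U ≤ ⊤)).op f ∈ J.ideal ⟨U, hU⟩ :=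
      (ClSub.Sections.mem_range_idealModι_app_affine_iff J ⟨U, hU⟩ _).1
        ⟨(_root_.ClSub.idealMod J).presheaf.map (homOfLE (le_top : U ≤ ⊤)).op m,
          ConcreteCategory.congr_hom ((_root_.ClSub.idealModι J).mapPresheaf.naturality (homOfLE (le_top : U ≤ ⊤)).op) m⟩
    have hy' : y ∈ (J.supportSet : Set X) := by
      have h1 : Z ≤ J.support := Scheme.IdealSheafData.le_support_iff_le_vanishingIdeal.2 hJI
      exact h1 hyV
    have h2 := ((Scheme.IdealSheafData.mem_supportSet_iff_of_mem (I := J) (U := ⟨U, hU⟩) hyU).1 hy')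
    have h3 : y ∈ X.zeroLocus (U := U) {X.presheaf.map (homOfLE (le_top : U ≤ ⊤)).op f} :=
      X.zeroLocus_mono (Set.singleton_subset_iff.2 hmem) h2
    rw [Scheme.zeroLocus_singleton, Scheme.basicOpen_res] at h3
    exact h3 ⟨hyU, hy⟩
  refine ⟨f, ?_, hm⟩
  have he : X.basicOpen f = X.basicOpen (X.presheaf.map (homOfLE (le_top : V ≤ ⊤)).op f) := by
    rw [Scheme.basicOpen_res, inf_eq_right.2 hfV]
  rw [he]
  exact hV.basicOpen _

end Groth.Agent.Lib.Ample.QAffCrit
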