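import Groth.Agent.Lib.Ample.RelAmple
import Groth.Agent.Lib.PProj.AffineGen

/-!
# Relative ampleness of external tensor products
-/

noncomputable section

universe u

open CategoryTheory CategoryTheory.Limits AlgebraicGeometry Opposite TopologicalSpace

namespace Groth.Agent.Lib.Ample.External

open TensorMod TensorMod.Basic TensorMod.Dual TensorMod.Gen TensorMod.Pullback GenLocus Pow RelAmple

variable {A B Z P : Scheme.{u}}

theorem isRelAmple_external (p : Z ⟶ A) (q : Z ⟶ B) (F : Z ⟶ P) {f₁ : A ⟶ P} {f₂ : B ⟶ P}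
    (h₁ : p ≫ f₁ = F) (h₂ : q ≫ f₂ = F) (hk : IsClosedImmersion (pullback.lift p q (h₁.trans h₂.symm)))
    [QuasiCompact F] {K : A.Modules} {K' : B.Modules} (hK : _root_.RelAmple.IsRelAmple f₁ K)
    (hK' : _root_.RelAmple.IsRelAmple f₂ K') :
    _root_.RelAmple.IsRelAmple F (CohB1.tensorMod ((pb p).obj K) ((pb q).obj K')) := by
  have hi := RelAmple.isInvertible_of_isRelAmple hK
  have hi' := RelAmple.isInvertible_of_isRelAmple hK'
  rw [RelAmple.isRelAmple_iff] at hK hK' ⊢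
  refine ⟨inferInstance, fun V hV => ?_⟩
  haveI : IsAffine (V : Scheme.{u}) := hV
  let O := F ⁻¹ᵁ V
  haveI : CompactSpace (O : Scheme.{u}) := QuasiCompact.compactSpace_of_compactSpace (F ∣_ V)
  have ep : O ≤ p ⁻¹ᵁ (f₁ ⁻¹ᵁ V) := by rw [← Scheme.Hom.comp_preimage, h₁]
  have eq' : O ≤ q ⁻¹ᵁ (f₂ ⁻¹ᵁ V) := by rw [← Scheme.Hom.comp_preimage, h₂]
  let pO := p.resLE (f₁ ⁻¹ᵁ V) O ep
  let qO := q.resLE (f₂ ⁻¹ᵁ V) O eq'
  let KA := (pb (f₁ ⁻¹ᵁ V).ι).obj K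
  let KB := (pb (f₂ ⁻¹ᵁ V).ι).obj K'
  have hA : CohB1.IsAmple KA := hK.2 V hV
  have hB : CohB1.IsAmple KB := hK'.2 V hV
  let e1 : (pb O.ι).obj ((pb p).obj K) ≅ (pb pO).obj KA :=
    (Scheme.Modules.pullbackComp O.ι p).app K ≪≫
      (Scheme.Modules.pullbackCongr (Scheme.Hom.resLE_comp_ι p ep).symm).app K ≪≫
        ((Scheme.Modules.pullbackComp pO (f₁ ⁻¹ᵁ V).ι).app K).symm
  let e2 : (pb O.ι).obj ((pb q).obj K') ≅ (pb qO).obj KB :=
    (Scheme.Modules.pullbackComp O.ι q).app K' ≪≫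
      (Scheme.Modules.pullbackCongr (Scheme.Hom.resLE_comp_ι q eq').symm).app K' ≪≫
        ((Scheme.Modules.pullbackComp qO (f₂ ⁻¹ᵁ V).ι).app K').symm
  refine Pow.isAmple_of_iso (pullbackTensorIso O.ι _ _ ≪≫ tensorIso e1 e2).symm ?_
  refine Pow.isAmple_iff.2 ⟨Invertible.isInvertible_tensorMod (PicLoc.isInvertible_pullback _ hA.1)
    (PicLoc.isInvertible_pullback _ hB.1), inferInstance, fun z => ?_⟩
  obtain ⟨n, hn, s, hs, hsa⟩ := (Pow.isAmple_iff.1 hA).2.2 (pO z)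
  obtain ⟨m, hm, t, ht, hta⟩ := (Pow.isAmple_iff.1 hB).2.2 (qO z)
  let s' : Coh.structureModule _ ⟶ CohB1.tensorPow KA (n * m) := SecTwist.powHom s m ≫ (powMul KA n m).hom
  let t' : Coh.structureModule _ ⟶ CohB1.tensorPow KB (n * m) :=
    SecTwist.powHom t n ≫ (powMul KB m n ≪≫ powCongr KB (Nat.mul_comm m n)).hom
  have hs' : CohB1.genLocus _ s' = CohB1.genLocus _ s := by
    rw [genLocus_comp_iso, genLocus_powHom (Invertible.isInvertible_tensorPow hA.1 n) s m hm]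
  have ht' : CohB1.genLocus _ t' = CohB1.genLocus _ t := by
    rw [genLocus_comp_iso, genLocus_powHom (Invertible.isInvertible_tensorPow hB.1 m) t n hn]
  let σ := ((PicLoc.pullbackStructureIso pO).inv ≫ (pb pO).map s') ≫ (pullbackPow pO KA (n * m)).hom
  let τ := ((PicLoc.pullbackStructureIso qO).inv ≫ (pb qO).map t') ≫ (pullbackPow qO KB (n * m)).hom
  have hσ : CohB1.genLocus _ σ = pO ⁻¹ᵁ CohB1.genLocus _ s := by
    rw [genLocus_comp_iso, ← hs']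
    exact genLocus_pullback pO (Invertible.isInvertible_tensorPow hA.1 _) s'
      (PicLoc.pullbackStructureIso pO).symm
  have hτ : CohB1.genLocus _ τ = qO ⁻¹ᵁ CohB1.genLocus _ t := by
    rw [genLocus_comp_iso, ← ht']
    exact genLocus_pullback qO (Invertible.isInvertible_tensorPow hB.1 _) t'
      (PicLoc.pullbackStructureIso qO).symm
  have hloc : CohB1.genLocus _ (SecTwist.tmulHom σ τ) = pO ⁻¹ᵁ CohB1.genLocus _ s ⊓ qO ⁻¹ᵁ CohB1.genLocus _ t := by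
    rw [genLocus_tmulHom (Invertible.isInvertible_tensorPow (PicLoc.isInvertible_pullback _ hA.1) _)
      (Invertible.isInvertible_tensorPow (PicLoc.isInvertible_pullback _ hB.1) _), hσ, hτ]
  refine AffineAt.mk (Nat.mul_pos hn hm) (powTensor _ _ _).symm (SecTwist.tmulHom σ τ) ?_ ?_
  · rw [hloc]; exact ⟨hs, ht⟩
  rw [hloc]
  let SA := (f₁ ⁻¹ᵁ V).ι ''ᵁ CohB1.genLocus _ s
  let TB := (f₂ ⁻¹ᵁ V).ι ''ᵁ CohB1.genLocus _ t
  have hS : SA ≤ f₁ ⁻¹ᵁ V := by rintro _ ⟨y, -, rfl⟩; exact y.2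
  have hT : TB ≤ f₂ ⁻¹ᵁ V := by rintro _ ⟨y, -, rfl⟩; exact y.2
  have haff := (PProj.affine_and_gen p q f₁ f₂ (h₁.trans h₂.symm) hk (hsa.image_of_isOpenImmersion (f₁ ⁻¹ᵁ V).ι)
    (hta.image_of_isOpenImmersion (f₂ ⁻¹ᵁ V).ι) hV hS hT).1
  refine (O.ι.isAffineOpen_iff_of_isOpenImmersion).1 ?_
  have himg : O.ι ''ᵁ (pO ⁻¹ᵁ CohB1.genLocus _ s ⊓ qO ⁻¹ᵁ CohB1.genLocus _ t) = p ⁻¹ᵁ SA ⊓ q ⁻¹ᵁ TB := by
    have hp : ∀ w, (f₁ ⁻¹ᵁ V).ι (pO w) = p (O.ι w) := fun w => by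
      rw [← Scheme.Hom.comp_apply, Scheme.Hom.resLE_comp_ι, Scheme.Hom.comp_apply]
    have hq : ∀ w, (f₂ ⁻¹ᵁ V).ι (qO w) = q (O.ι w) := fun w => by
      rw [← Scheme.Hom.comp_apply, Scheme.Hom.resLE_comp_ι, Scheme.Hom.comp_apply]
    refine le_antisymm ?_ ?_
    · rintro _ ⟨w, ⟨hw, hw'⟩, rfl⟩
      exact ⟨⟨pO w, hw, hp w⟩, ⟨qO w, hw', hq w⟩⟩
    · rintro x ⟨⟨y, hy, hyx⟩, ⟨y', hy', hyx'⟩⟩
      have hxO : x ∈ O := by
        have h := y.2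
        show F x ∈ V
        rw [← h₁, Scheme.Hom.comp_apply, ← hyx]
        exact h
      refine ⟨⟨x, hxO⟩, ⟨?_, ?_⟩, rfl⟩
      · have e : pO ⟨x, hxO⟩ = y := (f₁ ⁻¹ᵁ V).ι.injective ((hp _).trans hyx.symm)
        show pO ⟨x, hxO⟩ ∈ CohB1.genLocus _ s
        rw [e]; exact hy
      · have e : qO ⟨x, hxO⟩ = y' := (f₂ ⁻¹ᵁ V).ι.injective ((hq _).trans hyx'.symm)
        show qO ⟨x, hxO⟩ ∈ CohB1.genLocus _ t
        rw [e]; exact hy'
  exact himg ▸ haff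

end Groth.Agent.Lib.Ample.External
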