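import Groth.Agent.Lib.Ample.Pullback
import Groth.Prelude.Def_LCI2

/-!
# Ampleness and restriction to opens
-/

noncomputable section

universe u

open CategoryTheory CategoryTheory.Limits AlgebraicGeometry Opposite TopologicalSpace

namespace Groth.Agent.Lib.Ample.Restrict

open TensorMod TensorMod.Basic TensorMod.Free TensorMod.Dual TensorMod.Gen TensorMod.Pullback
  TensorMod.HomGlue GenLocus Pow Extend Basis Pullback

variable {X Y A B : Scheme.{u}} {L : X.Modules}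

/-- Pullbacks along open immersions that differ by an isomorphism. -/
theorem isAmple_pb_congr (k : B ⟶ X) (j : A ⟶ X) (e : A ⟶ B) [IsIso e] (he : e ≫ k = j)
    (h : CohB1.IsAmple ((pb k).obj L)) : CohB1.IsAmple ((pb j).obj L) :=
  isAmple_of_iso ((Scheme.Modules.pullbackComp e k).app L ≪≫ (Scheme.Modules.pullbackCongr he).app L)
    (isAmple_pullback e (isQuasiAffine_of_isAffineHom e) h)

theorem isAmple_pb_of_range_eq (k : B ⟶ X) (j : A ⟶ X) [IsOpenImmersion k] [IsOpenImmersion j]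
    (he : Set.range j = Set.range k) (h : CohB1.IsAmple ((pb k).obj L)) : CohB1.IsAmple ((pb j).obj L) :=
  isAmple_pb_congr k j (IsOpenImmersion.isoOfRangeEq j k he).hom (IsOpenImmersion.isoOfRangeEq_hom_fac j k he) h

theorem isAmple_restrict_iff_pb (U : X.Opens) :
    CohB1.IsAmple (L.restrict U.ι) ↔ CohB1.IsAmple ((pb U.ι).obj L) :=
  ⟨isAmple_of_iso ((Scheme.Modules.restrictFunctorIsoPullback U.ι).app L),
    isAmple_of_iso ((Scheme.Modules.restrictFunctorIsoPullback U.ι).app L).symm⟩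

theorem isGen_restrict {M : X.Modules} {W : X.Opens} {e : Γ(M, W)} (he : IsGen M W e) (U : X.Opens) :
    IsGen (M.restrict U.ι) (U.ι ⁻¹ᵁ W)
      ((M.restrictAppIso U.ι _).inv (rs M (U.ι.image_preimage_le W) e)) := fun V hV => by
  have hb : Function.Bijective fun a : Γ((U : Scheme.{u}), V) =>
      a • (M.restrictAppIso U.ι V).inv (rs M ((Scheme.Hom.image_mono U.ι hV).trans (U.ι.image_preimage_le W)) e) :=
    (he _ _).comp (ConcreteCategory.bijective_of_isIso (U.ι.appIso V).inv)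
  convert hb using 3 with a
  exact rs_rs M (U.ι.image_preimage_le W) (Scheme.Hom.image_mono U.ι hV) e

/-- A section over the locus of `h` (for `h` a section of an invertible module) times a power of `h` extends, and
the locus of the extension is that of the section. -/
theorem exists_sec_extend [CompactSpace X] [QuasiSeparatedSpace X] {M N : X.Modules}
    (hM : PicF.IsInvertible M) (hN : PicF.IsInvertible N) (h : Coh.structureModule X ⟶ N)
    (s : Coh.structureModule (CohB1.genLocus N h : Scheme.{u}) ⟶ M.restrict (CohB1.genLocus N h).ι) :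
    ∃ n : ℕ, 0 < n ∧ ∃ t : Coh.structureModule X ⟶ CohB1.tensorMod (CohB1.tensorMod M (CohB1.tensorPow N n)) N,
      CohB1.genLocus _ t = (CohB1.genLocus N h).ι ''ᵁ CohB1.genLocus _ s := by
  let G := CohB1.genLocus N h
  haveI := QCohInv.isQCoh_of_isInvertible hM
  let σ : Γ(M, G) := rs M G.ι_image_top.ge ((M.restrictAppIso G.ι ⊤).hom (sv s ⊤))
  obtain ⟨n, hn, t', ht'⟩ := exists_extension (F := M) hN h σ
  obtain ⟨t, ht⟩ := exists_hom_of_sec t'
  have hMN := Invertible.isInvertible_tensorMod hM (Invertible.isInvertible_tensorPow hN n)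
  refine ⟨n, hn, SecTwist.tmulHom t h, ?_⟩
  rw [genLocus_tmulHom hMN hN]
  apply Opens.ext
  apply Set.ext
  intro x
  obtain ⟨W, e, hxW, he⟩ := isInvertible_iff.1 hM x
  have he' := he.res (inf_le_right : G ⊓ W ≤ W)
  obtain ⟨a, ha⟩ := exists_coord he' (rs M inf_le_left σ)
  have hpow : IsGen (CohB1.tensorPow N n) (G ⊓ W) (powSec (sv h (G ⊓ W)) n) := by
    rw [← rs_sv h (inf_le_left : G ⊓ W ≤ G)]
    exact isGen_powSec ((isGen_genLocus h).res inf_le_left) n
  have h1 : CohB1.genLocus _ t ⊓ (G ⊓ W) = X.basicOpen a := by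
    refine genLocus_inf_eq (isGen_tmul he' hpow) t ?_
    rw [← rs_sv t (le_top : G ⊓ W ≤ ⊤), ht, ← rs_rs _ (le_top : G ≤ ⊤) (inf_le_left : G ⊓ W ≤ G), ht',
      rs_twist, twist_eq (a := 1) (e := sv h (G ⊓ W)) (one_smul _ _).symm, one_pow, one_smul, ha,
      ← pairM_id, ← pairM_id, pairM_smul_left]
  let b : Γ((G : Scheme.{u}), G.ι ⁻¹ᵁ (G ⊓ W)) :=
    (G.ι.appIso _).hom (rf (G.ι.image_preimage_le _) a)
  have h2 : CohB1.genLocus _ s ⊓ G.ι ⁻¹ᵁ (G ⊓ W) = (G : Scheme.{u}).basicOpen b := by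
    refine genLocus_inf_eq (isGen_restrict he' G) s ?_
    rw [← rs_sv s (le_top : G.ι ⁻¹ᵁ (G ⊓ W) ≤ ⊤)]
    have hσ := congrArg (rs M (G.ι.image_preimage_le (G ⊓ W))) ha
    rw [rs_smul, rs_rs] at hσ
    change rs M _ (rs M _ ((M.restrictAppIso G.ι ⊤).hom (sv s ⊤))) = _ at hσ
    rw [rs_rs] at hσ
    refine (ConcreteCategory.bijective_of_isIso (M.restrictAppIso G.ι (G.ι ⁻¹ᵁ (G ⊓ W))).hom).1 ?_
    refine hσ.trans ?_
    rw [restrict_smul, Iso.hom_inv_id_apply]
    rfl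
  have hb : G.ι ''ᵁ (G : Scheme.{u}).basicOpen b = X.basicOpen a := by
    rw [Scheme.image_basicOpen]
    change X.basicOpen ((G.ι.appIso _).inv ((G.ι.appIso _).hom (rf (G.ι.image_preimage_le _) a))) = _
    rw [Iso.hom_inv_id_apply, Scheme.basicOpen_res, Scheme.Hom.image_preimage_eq_opensRange_inf,
      Scheme.Opens.opensRange_ι]
    exact inf_eq_right.2 ((X.basicOpen_le a).trans (le_inf inf_le_left le_rfl))
  constructor
  · rintro ⟨hxt, hxG⟩
    have hxa : x ∈ G.ι ''ᵁ (G : Scheme.{u}).basicOpen b := by rw [hb, ← h1]; exact ⟨hxt, hxG, hxW⟩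
    obtain ⟨y, hy, rfl⟩ := hxa
    exact ⟨y, (h2.ge hy).1, rfl⟩
  · rintro ⟨y, hy, rfl⟩
    have hya : G.ι y ∈ X.basicOpen a := by
      rw [← hb]
      exact ⟨y, h2.le ⟨hy, y.2, hxW⟩, rfl⟩
    exact ⟨(h1.ge hya).1, y.2⟩

theorem exists_hom_basicOpen (a : Γ(X, ⊤)) :
    ∃ h : Coh.structureModule X ⟶ Coh.structureModule X, CohB1.genLocus _ h = X.basicOpen a := by
  obtain ⟨h, hh⟩ := exists_hom_of_sec (L := Coh.structureModule X) (show Γ(Coh.structureModule X, ⊤) from a)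
  refine ⟨h, ?_⟩
  rw [← genLocus_inf_eq (isGen_one ⊤) h (a := a) (hh.trans (smul_one_eq a)), inf_top_eq]

theorem isInvertible_of_isInvertible_pb {ι : Type*} (U : ι → X.Opens) (hcov : iSup U = ⊤)
    (h : ∀ i, PicF.IsInvertible ((pb (U i).ι).obj L)) : PicF.IsInvertible L := fun x => by
  obtain ⟨i, hxi⟩ := Opens.mem_iSup.1 (hcov.ge (trivial : x ∈ (⊤ : X.Opens)))
  have hinv := Invertible.isInvertible_of_iso ((Scheme.Modules.restrictFunctorIsoPullback (U i).ι).app L).symm (h i)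
  obtain ⟨W, hxW, ⟨e⟩⟩ := hinv ⟨x, hxi⟩
  refine ⟨(U i).ι ''ᵁ W, ⟨⟨x, hxi⟩, hxW, rfl⟩, ⟨?_⟩⟩
  exact (Scheme.Modules.restrictFunctorCongr ((U i).ι.isoImage_inv_ι W)).symm.app L ≪≫
    (Scheme.Modules.restrictFunctorComp ((U i).ι.isoImage W).inv (W.ι ≫ (U i).ι)).app L ≪≫
    (Scheme.Modules.restrictFunctor ((U i).ι.isoImage W).inv).mapIso
      ((Scheme.Modules.restrictFunctorComp W.ι (U i).ι).app L ≪≫ e) ≪≫
    Scheme.Modules.restrictUnitIso _

/-- Ampleness is checked on basic opens of the functions of the base covering `X`. -/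
theorem isAmple_of_cover {ι : Type*} [Finite ι] (a : ι → Γ(X, ⊤)) (hcov : ⨆ i, X.basicOpen (a i) = ⊤)
    (h : ∀ i, CohB1.IsAmple ((pb (X.basicOpen (a i)).ι).obj L)) : CohB1.IsAmple L := by
  have hL := isInvertible_of_isInvertible_pb _ hcov fun i => (h i).1
  haveI : ∀ i, CompactSpace (X.basicOpen (a i) : Scheme.{u}) := fun i => (h i).2.1
  haveI : CompactSpace X := ⟨by
    have hU : (Set.univ : Set X) = ⋃ i, Set.range (X.basicOpen (a i)).ι := by
      refine (Set.eq_univ_of_forall fun x => ?_).symm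
      obtain ⟨i, hi⟩ := Opens.mem_iSup.1 (hcov.ge (trivial : x ∈ (⊤ : X.Opens)))
      exact Set.mem_iUnion.2 ⟨i, ⟨x, hi⟩, rfl⟩
    rw [hU]
    exact isCompact_iUnion fun i => isCompact_range (X.basicOpen (a i)).ι.continuous⟩
  haveI : QuasiSeparatedSpace X := by
    refine QuasiSeparatedSpace.of_isOpenCover (U := fun i => X.basicOpen (a i)) hcov
      (fun i => IsRetrocompact_iff_isSpectralMap_subtypeVal.mpr (X.basicOpen (a i)).ι.isSpectralMap) fun i => ?_
    refine (isQuasiSeparated_iff_quasiSeparatedSpace _ (X.basicOpen (a i)).isOpen).2 ?_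
    exact quasiSeparatedSpace_of_isAmple (h i)
  refine isAmple_iff.2 ⟨hL, inferInstance, fun x => ?_⟩
  obtain ⟨i, hi⟩ := Opens.mem_iSup.1 (hcov.ge (trivial : x ∈ (⊤ : X.Opens)))
  obtain ⟨φ, hφ⟩ := exists_hom_basicOpen (a i)
  let G := CohB1.genLocus _ φ
  have hG : CohB1.IsAmple ((pb G.ι).obj L) :=
    isAmple_pb_of_range_eq (X.basicOpen (a i)).ι G.ι (by simp [G, hφ]) (h i)
  obtain ⟨m, hm, s, hxs, hs⟩ := (isAmple_iff.1 hG).2.2 ⟨x, hφ.ge hi⟩
  let e₀ := (pullbackPow G.ι L m).symm ≪≫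
    ((Scheme.Modules.restrictFunctorIsoPullback G.ι).app (CohB1.tensorPow L m)).symm
  obtain ⟨n, -, t, ht⟩ := exists_sec_extend (Invertible.isInvertible_tensorPow hL m)
    (PicLoc.isInvertible_structureModule X) φ (s ≫ e₀.hom)
  rw [genLocus_comp_iso] at ht
  refine AffineAt.mk hm (tensorIso (tensorIso (Iso.refl _) (powUnit X n) ≪≫ rightUnit _) (Iso.refl _) ≪≫
    rightUnit _) t ?_ ?_
  · rw [ht]; exact ⟨⟨x, hφ.ge hi⟩, hxs, rfl⟩
  · rw [ht]; exact hs.image_of_isOpenImmersion G.ι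

end Groth.Agent.Lib.Ample.Restrict
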