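import Groth.Agent.Lib.Ample.RelAmple
import Mathlib.AlgebraicGeometry.Limits

/-!
# Relative ampleness on a disjoint union
-/

noncomputable section

universe u

open CategoryTheory CategoryTheory.Limits AlgebraicGeometry Opposite TopologicalSpace

namespace Groth.Agent.Lib.Ample.Coprod

open TensorMod TensorMod.Basic TensorMod.Dual TensorMod.Pullback RelAmple Restrict

variable {X X' Y : Scheme.{u}}

instance isClosedImmersion_inl : IsClosedImmersion (coprod.inl : X ⟶ X ⨿ X') := by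
  refine IsClosedImmersion.of_isPreimmersion _ ?_
  rw [← isOpen_compl_iff]
  have h : (Set.range (coprod.inl : X ⟶ X ⨿ X'))ᶜ = Set.range (coprod.inr : X' ⟶ X ⨿ X') :=
    (isCompl_range_inl_inr X X').compl_eq
  rw [h]
  exact (coprod.inr : X' ⟶ X ⨿ X').isOpenEmbedding.isOpen_range

instance isClosedImmersion_inr : IsClosedImmersion (coprod.inr : X' ⟶ X ⨿ X') := by
  refine IsClosedImmersion.of_isPreimmersion _ ?_
  rw [← isOpen_compl_iff]
  have h : (Set.range (coprod.inr : X' ⟶ X ⨿ X'))ᶜ = Set.range (coprod.inl : X ⟶ X ⨿ X') :=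
    (isCompl_range_inl_inr X X').symm.compl_eq
  rw [h]
  exact (coprod.inl : X ⟶ X ⨿ X').isOpenEmbedding.isOpen_range

/-- A clopen piece of an open is a basic open. -/
theorem exists_basicOpen_eq {Z : Scheme.{u}} {A B : Z.Opens} (hd : Disjoint A B) :
    ∃ a : Γ(Z, A ⊔ B), Z.basicOpen a = A := by
  let P : Bool → Z.Opens := fun b => if b then A else B
  let v : ∀ b, Γ(Z, P b) := fun b => if b then 1 else 0
  have hle : ∀ b, P b ≤ A ⊔ B := fun b => by cases b <;> simp [P]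
  have hcov : A ⊔ B ≤ ⨆ b, P b := sup_le (le_iSup P true) (le_iSup P false)
  obtain ⟨a, ha, -⟩ := Z.sheaf.existsUnique_gluing' P (A ⊔ B) (fun b => homOfLE (hle b)) hcov v fun b b' => by
    cases b <;> cases b'
    · rfl
    · have e : P false ⊓ P true = ⊥ := by simp [P, inf_comm, hd.eq_bot]
      refine Z.sheaf.eq_of_locally_eq' (fun e : Empty => e.elim) _ (fun e => e.elim) ?_ _ _ (fun e => e.elim)
      rw [e]; exact bot_le
    · have e : P true ⊓ P false = ⊥ := by simp [P, hd.eq_bot]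
      refine Z.sheaf.eq_of_locally_eq' (fun e : Empty => e.elim) _ (fun e => e.elim) ?_ _ _ (fun e => e.elim)
      rw [e]; exact bot_le
    · rfl
  have ha' : ∀ c, Z.presheaf.map (homOfLE (hle c)).op (show Γ(Z, A ⊔ B) from a) = v c := ha
  refine ⟨a, le_antisymm (fun x hx => ?_) fun x hx => ?_⟩
  · rcases Z.basicOpen_le a hx with h | h
    · exact h
    · exfalso
      have h1 : x ∈ Z.basicOpen (Z.presheaf.map (homOfLE (hle false)).op a) := by
        rw [Scheme.basicOpen_res]; exact ⟨h, hx⟩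
      erw [ha' false] at h1
      simp [v] at h1
  · have h1 : x ∈ Z.basicOpen (Z.presheaf.map (homOfLE (hle true)).op a) := by
      erw [ha' true]; rw [Scheme.basicOpen_of_isUnit _ (show IsUnit (v true) from isUnit_one)]
      exact hx
    rw [Scheme.basicOpen_res] at h1
    exact h1.2

theorem isRelAmple_coprod_iff (f : X ⟶ Y) (f' : X' ⟶ Y) [QuasiCompact f] [QuasiCompact f']
    (M : (X ⨿ X').Modules) :
    _root_.RelAmple.IsRelAmple (coprod.desc f f') M ↔
      _root_.RelAmple.IsRelAmple f ((pb (coprod.inl : X ⟶ X ⨿ X')).obj M) ∧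
        _root_.RelAmple.IsRelAmple f' ((pb (coprod.inr : X' ⟶ X ⨿ X')).obj M) := by
  let i : X ⟶ X ⨿ X' := coprod.inl
  let i' : X' ⟶ X ⨿ X' := coprod.inr
  constructor
  · intro h
    constructor
    · have := isRelAmple_pullback (coprod.desc f f') i (Ample.Pullback.isQuasiAffine_of_isAffineHom i) h
      rwa [coprod.inl_desc] at this
    · have := isRelAmple_pullback (coprod.desc f f') i' (Ample.Pullback.isQuasiAffine_of_isAffineHom i') h
      rwa [coprod.inr_desc] at this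
  rintro ⟨h1, h2⟩
  rw [RelAmple.isRelAmple_iff] at h1 h2
  have hset : ∀ V : Y.Opens, coprod.desc f f' ⁻¹ᵁ V = i ''ᵁ (f ⁻¹ᵁ V) ⊔ i' ''ᵁ (f' ⁻¹ᵁ V) := fun V => by
    refine le_antisymm (fun z hz => ?_) (sup_le ?_ ?_)
    · obtain ⟨(x | x), rfl⟩ := (coprodMk X X').surjective z
      · refine Or.inl ⟨x, ?_, (coprodMk_inl X X' x).symm⟩
        have h : coprod.desc f f' (i x) ∈ V := by rw [← coprodMk_inl]; exact hz
        rwa [← Scheme.Hom.comp_apply, coprod.inl_desc] at h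
      · refine Or.inr ⟨x, ?_, (coprodMk_inr X X' x).symm⟩
        have h : coprod.desc f f' (i' x) ∈ V := by rw [← coprodMk_inr]; exact hz
        rwa [← Scheme.Hom.comp_apply, coprod.inr_desc] at h
    · rintro _ ⟨x, hx, rfl⟩
      show coprod.desc f f' (i x) ∈ V
      rwa [← Scheme.Hom.comp_apply, coprod.inl_desc]
    · rintro _ ⟨x, hx, rfl⟩
      show coprod.desc f f' (i' x) ∈ V
      rwa [← Scheme.Hom.comp_apply, coprod.inr_desc]
  haveI : QuasiCompact (coprod.desc f f') := by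
    refine quasiCompact_iff_forall_isAffineOpen.2 fun V hV => ?_
    rw [hset, Opens.coe_sup]
    exact ((f.isCompact_preimage hV.isCompact).image i.continuous).union
      ((f'.isCompact_preimage hV.isCompact).image i'.continuous)
  refine (RelAmple.isRelAmple_iff _).2 ⟨inferInstance, fun V hV => ?_⟩
  let O : (X ⨿ X').Opens := coprod.desc f f' ⁻¹ᵁ V
  have hdis : Disjoint (i ''ᵁ (f ⁻¹ᵁ V)) (i' ''ᵁ (f' ⁻¹ᵁ V)) := by
    rw [disjoint_iff_inf_le]
    rintro z ⟨⟨x, -, rfl⟩, ⟨y, -, hy⟩⟩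
    exact ((isCompl_range_inl_inr X X').disjoint.ne_of_mem ⟨x, rfl⟩ ⟨y, rfl⟩ hy.symm).elim
  obtain ⟨a, ha⟩ := exists_basicOpen_eq hdis
  obtain ⟨a', ha'⟩ := exists_basicOpen_eq hdis.symm
  let b : Bool → Γ((O : Scheme.{u}), ⊤) := fun c => O.topIso.inv
    ((X ⨿ X').presheaf.map (eqToHom (hset V)).op (if c then a else
      (X ⨿ X').presheaf.map (eqToHom (sup_comm _ _)).op a'))
  have hb : ∀ c, O.ι ''ᵁ (O : Scheme.{u}).basicOpen (b c) =
      bif c then i ''ᵁ (f ⁻¹ᵁ V) else i' ''ᵁ (f' ⁻¹ᵁ V) := fun c => by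
    rw [Scheme.Opens.ι_image_basicOpen_topIso_inv]
    cases c
    · simp only [Bool.false_eq_true, if_false, cond_false]
      rw [Scheme.basicOpen_res_eq, Scheme.basicOpen_res_eq, ha']
    · simp only [if_true, cond_true]
      rw [Scheme.basicOpen_res_eq, ha]
  refine isAmple_of_cover b (top_le_iff.1 fun x _ => ?_) fun c => ?_
  · have hx : O.ι x ∈ i ''ᵁ (f ⁻¹ᵁ V) ⊔ i' ''ᵁ (f' ⁻¹ᵁ V) := (hset V).le x.2
    rcases hx with hx | hx
    · obtain ⟨z, hz, hzx⟩ := (hb true).ge hx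
      exact Opens.mem_iSup.2 ⟨true, O.ι.injective hzx ▸ hz⟩
    · obtain ⟨z, hz, hzx⟩ := (hb false).ge hx
      exact Opens.mem_iSup.2 ⟨false, O.ι.injective hzx ▸ hz⟩
  refine Pow.isAmple_of_iso ((Scheme.Modules.pullbackComp ((O : Scheme.{u}).basicOpen (b c)).ι O.ι).app M).symm ?_
  have hrange : ∀ c, Set.range (((O : Scheme.{u}).basicOpen (b c)).ι ≫ O.ι) =
      ((bif c then i ''ᵁ (f ⁻¹ᵁ V) else i' ''ᵁ (f' ⁻¹ᵁ V) : (X ⨿ X').Opens) : Set ↥(X ⨿ X')) := fun c => by
    rw [← hb c, Scheme.Hom.comp_base, TopCat.coe_comp, Set.range_comp, Scheme.Opens.range_ι]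
    rfl
  cases c
  · refine isAmple_pb_of_range_eq ((f' ⁻¹ᵁ V).ι ≫ i') _ ?_
      (Pow.isAmple_of_iso ((Scheme.Modules.pullbackComp _ i').app M) (h2.2 V hV))
    rw [hrange, Scheme.Hom.comp_base, TopCat.coe_comp, Set.range_comp, Scheme.Opens.range_ι]
    rfl
  · refine isAmple_pb_of_range_eq ((f ⁻¹ᵁ V).ι ≫ i) _ ?_
      (Pow.isAmple_of_iso ((Scheme.Modules.pullbackComp _ i).app M) (h1.2 V hV))
    rw [hrange, Scheme.Hom.comp_base, TopCat.coe_comp, Set.range_comp, Scheme.Opens.range_ι]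
    rfl

end Groth.Agent.Lib.Ample.Coprod
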