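import Groth.Agent.Lib.Ample.RelAmple
import Groth.Agent.Lib.ProjMor.Sec
import Mathlib.AlgebraicGeometry.ResidueField

/-!
# Invertible modules with epimorphic counit
-/

noncomputable section

universe u

open CategoryTheory CategoryTheory.Limits AlgebraicGeometry Opposite TopologicalSpace

namespace Groth.Agent.Lib.Ample.CounitGen

open TensorMod TensorMod.Basic TensorMod.Dual TensorMod.Gen TensorMod.Pullback GenLocus

variable {X Y : Scheme.{u}}

theorem hom_eq_zero_of_counit (f : X ⟶ Y) {M N : X.Modules} (h : Epi ((pbAdj f).counit.app M)) (φ : M ⟶ N)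
    (hφ : ∀ (W : Y.Opens) (m : Γ(M, f ⁻¹ᵁ W)), φ.app (f ⁻¹ᵁ W) m = 0) : φ = 0 := by
  have hpf : (pf f).map φ = (pf f).map 0 := by
    refine Scheme.Modules.hom_ext _ _ fun W => ?_
    ext m
    exact (hφ W m).trans (by rfl)
  have h1 := (pbAdj f).counit.naturality φ
  have h2 := (pbAdj f).counit.naturality (0 : M ⟶ N)
  simp only [Functor.comp_map, Functor.id_map] at h1 h2
  rw [hpf] at h1
  exact (cancel_epi ((pbAdj f).counit.app M)).1 (h1.symm.trans h2)

/-- If the counit is an epimorphism, the sections over preimages of opens generate at every point. -/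
theorem exists_gen_section (f : X ⟶ Y) {M : X.Modules} (hM : PicF.IsInvertible M)
    (h : Epi ((pbAdj f).counit.app M)) (x : X) :
    ∃ (W : Y.Opens) (B : X.Opens) (hB : B ≤ f ⁻¹ᵁ W) (m : Γ(M, f ⁻¹ᵁ W)),
      f x ∈ W ∧ x ∈ B ∧ IsGen M B (rs M hB m) := by
  by_contra hcon
  push Not at hcon
  obtain ⟨U, e, hxU, he⟩ := isInvertible_iff.1 hM x
  let i := X.fromSpecResidueField x
  have hpre : ∀ A : X.Opens, x ∉ A → i ⁻¹ᵁ A = ⊥ := fun A hA => by
    ext z
    simp only [Opens.coe_bot, Set.mem_empty_iff_false, iff_false]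
    intro hz
    have h1 : i z ∈ ({x} : Set X) := Scheme.range_fromSpecResidueField x ▸ Set.mem_range_self z
    rw [Set.mem_singleton_iff] at h1
    exact hA (h1 ▸ hz)
  have hη : (pbAdj i).unit.app M = 0 := by
    refine hom_eq_zero_of_counit f h _ fun W m => ?_
    by_cases hx : x ∈ f ⁻¹ᵁ W
    · obtain ⟨a, ha⟩ := exists_coord (he.res (inf_le_right : f ⁻¹ᵁ W ⊓ U ≤ U))
        (rs M (inf_le_left : f ⁻¹ᵁ W ⊓ U ≤ f ⁻¹ᵁ W) m)
      have hax : x ∉ X.basicOpen a := fun hmem => by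
        refine hcon W _ ((X.basicOpen_le a).trans inf_le_left) m hx hmem ?_
        have h1 := congrArg (rs M (X.basicOpen_le a)) ha
        rw [rs_rs, rs_smul, rs_rs] at h1
        rw [h1]
        exact IsGen_smul_isUnit (he.res ((X.basicOpen_le a).trans inf_le_right))
          (X.toRingedSpace.isUnit_res_basicOpen a)
      have ha0 : i.app (f ⁻¹ᵁ W ⊓ U) a = 0 := by
        rw [← AlgebraicGeometry.basicOpen_eq_bot_iff, ← Scheme.preimage_basicOpen]
        exact hpre _ hax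
      have h2 := congrArg (unitSec i M) ha
      rw [unitSec_smul, ha0, zero_smul, ← unitSec_rs i (inf_le_left : f ⁻¹ᵁ W ⊓ U ≤ f ⁻¹ᵁ W) m] at h2
      have hall : i ⁻¹ᵁ (f ⁻¹ᵁ W) ≤ i ⁻¹ᵁ (f ⁻¹ᵁ W ⊓ U) := fun z hz => by
        have h1 : i z ∈ ({x} : Set X) := Scheme.range_fromSpecResidueField x ▸ Set.mem_range_self z
        rw [Set.mem_singleton_iff] at h1
        refine ⟨hz, ?_⟩
        show i z ∈ U
        rw [h1]
        exact hxU
      have h3 := congrArg (rs ((pb i).obj M) hall) h2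
      rw [rs_rs, rs_self] at h3
      exact h3.trans (map_zero _)
    · have hb := hpre _ hx
      haveI : Subsingleton Γ((pb i).obj M, i ⁻¹ᵁ (f ⁻¹ᵁ W)) := by
        rw [hb]
        exact AddCommGrpCat.subsingleton_of_isZero
          (TopCat.Sheaf.isTerminalOfEmpty ⟨((pb i).obj M).presheaf, ((pb i).obj M).isSheaf⟩).isZero
      exact Subsingleton.elim (α := Γ((pb i).obj M, i ⁻¹ᵁ (f ⁻¹ᵁ W))) _ _
  have hzero : IsZero ((pb i).obj M) := by
    rw [IsZero.iff_id_eq_zero, ← (pbAdj i).left_triangle_components M, hη]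
    simp
  have hg := isGen_unitSec i he
  have hU : (⊤ : (Spec (X.residueField x)).Opens) ≤ i ⁻¹ᵁ U := fun z _ => by
    have h1 : i z ∈ ({x} : Set X) := Scheme.range_fromSpecResidueField x ▸ Set.mem_range_self z
    rw [Set.mem_singleton_iff] at h1
    show i z ∈ U
    rw [h1]
    exact hxU
  have hsub : ∀ s : Γ((pb i).obj M, ⊤), s = 0 := fun s => by
    have := congrArg (fun φ => φ.app ⊤ s) ((IsZero.iff_id_eq_zero _).1 hzero)
    simpa using this
  have hone : (1 : Γ(Spec (X.residueField x), ⊤)) = 0 :=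
    (hg ⊤ hU).1 ((hsub _).trans (hsub _).symm)
  exact one_ne_zero hone

/-- EGA II 4.6.13 (ii). -/
theorem isRelAmple_tensor (f : X ⟶ Y) [QuasiCompact f] {L L' : X.Modules}
    (hL : _root_.RelAmple.IsRelAmple f L) (hL' : PicF.IsInvertible L') {n : ℕ} (hn : 0 < n)
    (h : Epi ((pbAdj f).counit.app (CohB1.tensorPow L' n))) :
    _root_.RelAmple.IsRelAmple f (CohB1.tensorMod L L') := by
  rw [RelAmple.isRelAmple_iff] at hL ⊢
  refine ⟨inferInstance, fun V hV => ?_⟩
  haveI : IsAffine (V : Scheme.{u}) := hV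
  let O := f ⁻¹ᵁ V
  have hO := hL.2 V hV
  haveI := Ample.Pullback.quasiSeparatedSpace_of_isAmple hO
  have hP : PicF.IsInvertible (CohB1.tensorPow L' n) := Invertible.isInvertible_tensorPow hL' n
  haveI := QCohInv.isQCoh_of_isInvertible hP
  refine Pow.isAmple_of_iso (pullbackTensorIso O.ι L L').symm
    (Basis.isAmple_tensor hO (PicLoc.isInvertible_pullback _ hL') fun z => ?_)
  obtain ⟨W, B, hB, m, hW, hzB, hgen⟩ := exists_gen_section f hP h (O.ι z)
  obtain ⟨g, hg, hzg⟩ := hV.exists_basicOpen_le (V := W) ⟨_, hW⟩ z.2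
  have hOc : IsCompact (O : Set X) := f.isCompact_preimage hV.isCompact
  have hOq : IsQuasiSeparated (O : Set X) :=
    (isQuasiSeparated_iff_quasiSeparatedSpace _ O.isOpen).2 (inferInstanceAs (QuasiSeparatedSpace (O : Scheme.{u})))
  let D := f ⁻¹ᵁ Y.basicOpen g
  have hD : D ≤ O := f.preimage_mono (Y.basicOpen_le g)
  obtain ⟨k, t, ht⟩ := (QCoh.Localizing.localizes_of_qcqs (CohB1.tensorPow L' n) hOc hOq (f.app V g)).ext'.exists_of_eq
    (Scheme.preimage_basicOpen f g) hD (rs _ (f.preimage_mono hg) m)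
  have hu : IsUnit (rf hD (f.app V g)) := by
    have h1 : rf hD (f.app V g) = f.app (Y.basicOpen g) (Y.presheaf.map (homOfLE (Y.basicOpen_le g)).op g) :=
      congr($((f.naturality (homOfLE (Y.basicOpen_le g)).op).symm) g)
    rw [h1]
    exact (Y.toRingedSpace.isUnit_res_basicOpen g).map _
  have hgen' : IsGen (CohB1.tensorPow L' n) (B ⊓ D) (rs _ (inf_le_right.trans hD : B ⊓ D ≤ O) t) := by
    have h1 := congrArg (rs (CohB1.tensorPow L' n) (inf_le_right : B ⊓ D ≤ D))
      (show rs (CohB1.tensorPow L' n) hD t = rf hD (f.app V g) ^ k • rs _ (f.preimage_mono hg) m from ht)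
    rw [rs_rs, rs_smul, rs_rs] at h1
    rw [h1]
    refine IsGen_smul_isUnit ?_ ((hu.pow k).map _)
    have h2 := hgen.res (inf_le_left : B ⊓ D ≤ B)
    rwa [rs_rs] at h2
  have htop : (⊤ : (O : Scheme.{u}).Opens) ≤ O.ι ⁻¹ᵁ O := fun w _ => w.2
  let M0 : Γ((pb O.ι).obj (CohB1.tensorPow L' n), ⊤) := rs _ htop (unitSec O.ι _ t)
  refine ⟨n, hn, Modules.Free.unitHom _ M0 ≫ (Pow.pullbackPow O.ι L' n).hom, ?_⟩
  rw [genLocus_comp_iso]
  change z ∈ ProjMor.Sec.locus M0
  refine ProjMor.Sec.le_locus (U := O.ι ⁻¹ᵁ (B ⊓ D)) ?_ ⟨hzB, hzg⟩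
  have h1 := isGen_unitSec O.ι hgen'
  rw [← unitSec_rs] at h1
  show IsGen _ _ (rs _ _ (rs _ htop (unitSec O.ι _ t)))
  rw [rs_rs]
  exact h1

end Groth.Agent.Lib.Ample.CounitGen
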