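import Groth.Agent.Lib.Ample.Coprod
import Mathlib.CategoryTheory.Limits.Preserves.Shapes.Biproducts

/-!
# Modules on a disjoint union with prescribed restrictions
-/

noncomputable section

universe u

open CategoryTheory CategoryTheory.Limits AlgebraicGeometry Opposite TopologicalSpace

namespace Groth.Agent.Lib.Ample.Coprod

variable {X X' : Scheme.{u}}

theorem isZero_restrict_pushforward {Z A B : Scheme.{u}} (i : A ⟶ Z) [IsOpenImmersion i] (k : B ⟶ Z)
    (h : Disjoint (Set.range i) (Set.range k)) (L : B.Modules) :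
    IsZero (((Scheme.Modules.pushforward k).obj L).restrict i) := by
  rw [IsZero.iff_id_eq_zero]
  refine Scheme.Modules.hom_ext _ _ fun W => ?_
  ext x
  have hbot : k ⁻¹ᵁ (i ''ᵁ W) = ⊥ := by
    ext b
    simp only [Opens.coe_bot, Set.mem_empty_iff_false, iff_false]
    rintro ⟨a, -, ha⟩
    exact h.ne_of_mem ⟨a, rfl⟩ ⟨b, rfl⟩ ha
  haveI : Subsingleton Γ(L, k ⁻¹ᵁ (i ''ᵁ W)) := by
    rw [hbot]
    exact AddCommGrpCat.subsingleton_of_isZero
      (TopCat.Sheaf.isTerminalOfEmpty ⟨L.presheaf, L.isSheaf⟩).isZero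
  exact @Subsingleton.elim Γ(L, k ⁻¹ᵁ (i ''ᵁ W)) inferInstance _ _

/-- The module with given restrictions to the two summands. -/
theorem exists_module (L : X.Modules) (L' : X'.Modules) : ∃ M : (X ⨿ X').Modules,
    Nonempty ((Scheme.Modules.pullback (coprod.inl : X ⟶ X ⨿ X')).obj M ≅ L) ∧
      Nonempty ((Scheme.Modules.pullback (coprod.inr : X' ⟶ X ⨿ X')).obj M ≅ L') := by
  let i : X ⟶ X ⨿ X' := coprod.inl
  let i' : X' ⟶ X ⨿ X' := coprod.inr
  let A := (Scheme.Modules.pushforward i).obj L
  let B := (Scheme.Modules.pushforward i').obj L'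
  have hd := (isCompl_range_inl_inr X X').disjoint
  haveI : PreservesBinaryBiproduct A B (Scheme.Modules.restrictFunctor i) :=
    preservesBinaryBiproduct_of_preservesBinaryCoproduct _
  haveI : PreservesBinaryBiproduct A B (Scheme.Modules.restrictFunctor i') :=
    preservesBinaryBiproduct_of_preservesBinaryCoproduct _
  refine ⟨A ⊞ B, ⟨?_⟩, ⟨?_⟩⟩
  · exact ((Scheme.Modules.restrictFunctorIsoPullback i).app (A ⊞ B)).symm ≪≫
      (Scheme.Modules.restrictFunctor i).mapBiprod A B ≪≫
      (isoBiprodZero (X := A.restrict i) (isZero_restrict_pushforward i i' hd L')).symm ≪≫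
      (Scheme.Modules.restrictFunctorAdjCounitIso i).app L
  · exact ((Scheme.Modules.restrictFunctorIsoPullback i').app (A ⊞ B)).symm ≪≫
      (Scheme.Modules.restrictFunctor i').mapBiprod A B ≪≫ biprod.braiding _ _ ≪≫
      (isoBiprodZero (X := B.restrict i') (isZero_restrict_pushforward i' i hd.symm L)).symm ≪≫
      (Scheme.Modules.restrictFunctorAdjCounitIso i').app L'

end Groth.Agent.Lib.Ample.Coprod
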