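import Groth.Agent.Lib.Ample.IdealCrit
import Groth.Agent.Lib.TensorMod.TensorQCoh
import Groth.Agent.Lib.Modules.StalkRestrict
import Groth.Agent.Lib.Cyc.FP.Stalk

/-!
# Relative ampleness from epimorphic counits on twisted ideals
-/

noncomputable section

universe u

open CategoryTheory CategoryTheory.Limits AlgebraicGeometry Opposite TopologicalSpace

namespace Groth.Agent.Lib.Ample.CounitCrit

open TensorMod TensorMod.Basic TensorMod.Free TensorMod.Dual TensorMod.Gen TensorMod.Pullback GenLocus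
  Modules.StalkModule GG Ample.GenLocus Ample.Pow Ample.Extend Ample.Basis IdealCrit

variable {X Y : Scheme.{u}} (f : X ⟶ Y)

/-- If the counit is epi, sections over preimages have some image that generates at a given point. -/
theorem exists_section_notMem_mP {J M : X.Modules} (h : Epi ((pbAdj f).counit.app J)) (φ : J ⟶ M)
    {U : X.Opens} {e : Γ(M, U)} (he : IsGen M U e) {x : X} (hxU : x ∈ U) {j : Γ(J, U)}
    (hj : φ.app U j = e) :
    ∃ (W : Y.Opens) (hxW : f x ∈ W) (g : Γ(J, f ⁻¹ᵁ W)),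
      gm (M := M) (show x ∈ f ⁻¹ᵁ W from hxW) (φ.app (f ⁻¹ᵁ W) g) ∉ mP hxU e := by
  by_contra hcon
  push Not at hcon
  let i := X.fromSpecResidueField x
  have hat : ∀ z, i z = x := fun z => by
    have h1 : i z ∈ ({x} : Set X) := Scheme.range_fromSpecResidueField x ▸ Set.mem_range_self z
    exact Set.mem_singleton_iff.1 h1
  have hpre : ∀ A : X.Opens, x ∉ A → i ⁻¹ᵁ A = ⊥ := fun A hA => by
    ext z
    simp only [Opens.coe_bot, Set.mem_empty_iff_false, iff_false]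
    intro hz
    exact hA (hat z ▸ hz)
  have hψ : φ ≫ (pbAdj i).unit.app M = 0 := CounitGen.hom_eq_zero_of_counit f h _ fun W m => by
    change unitSec i M (φ.app (f ⁻¹ᵁ W) m) = _
    by_cases hx : x ∈ f ⁻¹ᵁ W
    · obtain ⟨a, ha⟩ := exists_coord (he.res (inf_le_right : f ⁻¹ᵁ W ⊓ U ≤ U))
        (rs M (inf_le_left : f ⁻¹ᵁ W ⊓ U ≤ f ⁻¹ᵁ W) (φ.app (f ⁻¹ᵁ W) m))
      have hxi : x ∈ f ⁻¹ᵁ W ⊓ U := ⟨hx, hxU⟩
      have hax : x ∉ X.basicOpen a := fun hmem => by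
        have h1 := hcon W hx m
        rw [← gm_rs (inf_le_left : f ⁻¹ᵁ W ⊓ U ≤ f ⁻¹ᵁ W) hxi, ha, gm_smul, gm_rs, smul_mem_mP_iff he hxU] at h1
        exact h1 ((Scheme.mem_basicOpen _ _ x hxi).1 hmem)
      have ha0 : i.app (f ⁻¹ᵁ W ⊓ U) a = 0 := by
        rw [← AlgebraicGeometry.basicOpen_eq_bot_iff, ← Scheme.preimage_basicOpen]
        exact hpre _ hax
      have h2 := congrArg (unitSec i M) ha
      rw [unitSec_smul, ha0, zero_smul, ← unitSec_rs i (inf_le_left : f ⁻¹ᵁ W ⊓ U ≤ f ⁻¹ᵁ W)] at h2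
      have hall : i ⁻¹ᵁ (f ⁻¹ᵁ W) ≤ i ⁻¹ᵁ (f ⁻¹ᵁ W ⊓ U) := fun z hz => by
        refine ⟨hz, ?_⟩
        show i z ∈ U
        rw [hat z]
        exact hxU
      have h3 := congrArg (rs ((pb i).obj M) hall) h2
      rw [rs_rs, rs_self] at h3
      exact h3.trans (map_zero _)
    · have hb := hpre _ hx
      haveI : Subsingleton Γ((pb i).obj M, i ⁻¹ᵁ (f ⁻¹ᵁ W)) := by
        rw [hb]
        exact AddCommGrpCat.subsingleton_of_isZero
          (TopCat.Sheaf.isTerminalOfEmpty ⟨((pb i).obj M).presheaf, ((pb i).obj M).isSheaf⟩).isZero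
      exact Subsingleton.elim (α := Γ((pb i).obj M, i ⁻¹ᵁ (f ⁻¹ᵁ W))) _ _
  have h1 := congrArg (fun t => t.app U j) hψ
  change unitSec i M (φ.app U j) = 0 at h1
  rw [hj] at h1
  have h01 : (1 : Γ(Spec (X.residueField x), i ⁻¹ᵁ U)) = 0 := ((isGen_unitSec i he) _ le_rfl).1 (by
    simp only [rs_self, one_smul, zero_smul]
    exact h1)
  have hz : IsLocalRing.closedPoint (X.residueField x) ∈ i ⁻¹ᵁ U := by
    show i (IsLocalRing.closedPoint (X.residueField x)) ∈ U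
    rw [hat]
    exact hxU
  have h2 := congrArg ((Spec (X.residueField x)).presheaf.germ (i ⁻¹ᵁ U) _ hz) h01
  rw [map_one, map_zero] at h2
  exact one_ne_zero h2

/-- Relative ampleness from epimorphic counits on twisted finitely generated ideals. -/
theorem isRelAmple [CompactSpace X] [QuasiSeparatedSpace X] [QuasiCompact f] (L : X.Modules)
    (hL : PicF.IsInvertible L)
    (h : ∀ I : X.IdealSheafData, Lim.IdealExt.IsFG I →
      ∃ n : ℕ, 0 < n ∧
        Epi ((pbAdj f).counit.app (CohB1.tensorMod (_root_.ClSub.idealMod I) (CohB1.tensorPow L n)))) :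
    _root_.RelAmple.IsRelAmple f L := by
  refine (RelAmple.isRelAmple_iff f).2 ⟨inferInstance, fun V hV => ?_⟩
  let O := f ⁻¹ᵁ V
  have hOc : IsCompact (O : Set X) := f.isCompact_preimage hV.isCompact
  have hOq : IsQuasiSeparated (O : Set X) :=
    ((isQuasiSeparated_univ_iff).2 ‹QuasiSeparatedSpace X›).of_subset (Set.subset_univ _)
  haveI : CompactSpace (O : Scheme.{u}) := isCompact_iff_compactSpace.1 hOc
  refine Pow.isAmple_iff.2 ⟨PicLoc.isInvertible_pullback _ hL, inferInstance, fun z => ?_⟩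
  let x : X := z.1
  have hxO : x ∈ O := z.2
  obtain ⟨U₀, e₀, hxU₀, he₀⟩ := isInvertible_iff.1 hL x
  obtain ⟨U, hU, hxU, hUsub⟩ := exists_isAffineOpen_mem_and_subset (X := X) (x := x) (U := U₀ ⊓ O) ⟨hxU₀, hxO⟩
  have hUO : U ≤ O := fun y hy => (hUsub hy).2
  have hUU₀ : U ≤ U₀ := fun y hy => (hUsub hy).1
  let Z : TopologicalSpace.Closeds X := ⟨(U : Set X)ᶜ, U.isOpen.isClosed_compl⟩
  have hIV : (Scheme.IdealSheafData.vanishingIdeal Z).ideal ⟨U, hU⟩ = ⊤ := by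
    rw [Scheme.IdealSheafData.vanishingIdeal_ideal]
    have he : hU.fromSpec ⁻¹' (Z : Set X) = ∅ := Set.eq_empty_iff_forall_notMem.2 fun p hp => hp (by
      have h := Set.mem_range_self (f := hU.fromSpec) p
      rwa [hU.range_fromSpec] at h)
    exact (congrArg PrimeSpectrum.vanishingIdeal he).trans PrimeSpectrum.vanishingIdeal_empty
  obtain ⟨I, hIle, hI, hIU⟩ := Lim.IdealExt.exists_isFG_le _ ⟨U, hU⟩ ⊤ ⟨{1}, by simp⟩ hIV.ge
  have hsupp : Z ≤ I.support := Scheme.IdealSheafData.le_support_iff_le_vanishingIdeal.2 hIle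
  obtain ⟨n, hn, hepi⟩ := h I hI
  let M := CohB1.tensorPow L n
  have hM : PicF.IsInvertible M := Invertible.isInvertible_tensorPow hL _
  let J := CohB1.tensorMod (_root_.ClSub.idealMod I) M
  haveI := QCohInv.isQCoh_of_isInvertible hM
  haveI := QAffCrit.isQCoh_idealMod I
  haveI : J.IsQuasicoherent := TensorMod.TensorQCoh.isQCoh_tensorMod _ _
  let φ := SurfInt.Stalk.act (_root_.ClSub.idealModι I) M
  let e : Γ(M, U) := Extend.powSec (rs L hUU₀ e₀) n
  have he : IsGen M U e := Extend.isGen_powSec (he₀.res hUU₀) n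
  obtain ⟨m₁, hm₁⟩ := (ClSub.Sections.mem_range_idealModι_app_affine_iff I ⟨U, hU⟩ 1).2
    (hIU ▸ Submodule.mem_top)
  have hj : φ.app U (Modules.TensorSec.tens m₁ e) = e := by
    rw [SurfInt.Stalk.act_tens, hm₁, one_smul]
  obtain ⟨W, hxW, g, hg⟩ := exists_section_notMem_mP f hepi φ he hxU hj
  -- extend `g` from a basic open of `V`
  obtain ⟨b, hbW, hxb⟩ := hV.exists_basicOpen_le (V := W) ⟨_, hxW⟩ hxO
  let D := f ⁻¹ᵁ Y.basicOpen b
  have hD : D ≤ O := f.preimage_mono (Y.basicOpen_le b)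
  obtain ⟨k, g', hg'⟩ := (QCoh.Localizing.localizes_of_qcqs J hOc hOq (f.app V b)).ext'.exists_of_eq
    (Scheme.preimage_basicOpen f b) hD (rs J (f.preimage_mono hbW) g)
  have hu : IsUnit (rf hD (f.app V b)) := by
    have h1 : rf hD (f.app V b) = f.app (Y.basicOpen b) (Y.presheaf.map (homOfLE (Y.basicOpen_le b)).op b) :=
      congr($((f.naturality (homOfLE (Y.basicOpen_le b)).op).symm) b)
    rw [h1]
    exact (Y.toRingedSpace.isUnit_res_basicOpen b).map _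
  let t : Γ(M, O) := φ.app O g'
  have hxD : x ∈ D := hxb
  have htx : gm hxO t ∉ mP hxU e := fun hcon => hg (by
    have h1 : gm hxO t = stalkMapₗ φ x (gm hxO g') := (stalkMapₗ_germ φ hxO g').symm
    have h2 : gm hxO g' =
        (X.presheaf.germ D x hxD (rf hD (f.app V b))) ^ k • gm (show x ∈ f ⁻¹ᵁ W from hxW) g := by
      rw [← gm_rs hD hxD g', show rs J hD g' = rf hD (f.app V b) ^ k • rs J (f.preimage_mono hbW) g from hg',
        gm_smul, map_pow, gm_rs]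
    rw [h1, h2, map_smul] at hcon
    have h3 := (Submodule.smul_mem_iff_of_isUnit _ ((hu.map (X.presheaf.germ D x hxD).hom).pow k)).1 hcon
    erw [stalkMapₗ_germ] at h3
    exact h3)
  have htop : (⊤ : (O : Scheme.{u}).Opens) ≤ O.ι ⁻¹ᵁ O := fun w _ => w.2
  obtain ⟨s, hs⟩ := exists_hom_of_sec (L := (pb O.ι).obj M) (rs _ htop (unitSec O.ι M t))
  have hmem : ∀ (w : (O : Scheme.{u})) (U₁ : X.Opens) (e₁ : Γ(M, U₁)) (hw : w.1 ∈ U₁), IsGen M U₁ e₁ →
      (w ∈ CohB1.genLocus _ s ↔ gm (show w.1 ∈ O from w.2) t ∉ mP hw e₁) := by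
    intro w U₁ e₁ hw he₁
    obtain ⟨c, hc⟩ := exists_coord (he₁.res (inf_le_right : O ⊓ U₁ ≤ U₁)) (rs M inf_le_left t)
    have hw2 : w.1 ∈ O ⊓ U₁ := ⟨w.2, hw⟩
    have hloc : CohB1.genLocus _ s ⊓ O.ι ⁻¹ᵁ (O ⊓ U₁) = (O : Scheme.{u}).basicOpen (O.ι.app _ c) := by
      refine genLocus_inf_eq (isGen_unitSec O.ι (he₁.res (inf_le_right : O ⊓ U₁ ≤ U₁))) s ?_
      rw [← rs_sv s (le_top : O.ι ⁻¹ᵁ (O ⊓ U₁) ≤ ⊤), hs, rs_rs, unitSec_rs O.ι (inf_le_left : O ⊓ U₁ ≤ O), hc,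
        unitSec_smul]
    rw [← gm_rs (inf_le_left : O ⊓ U₁ ≤ O) hw2 t, hc, gm_smul, gm_rs, smul_mem_mP_iff he₁, not_not,
      ← Scheme.mem_basicOpen]
    rw [← Scheme.preimage_basicOpen] at hloc
    exact ⟨fun hw' => hloc.le ⟨hw', hw2⟩, fun hb => (hloc.ge hb).1⟩
  have hle : CohB1.genLocus _ s ≤ O.ι ⁻¹ᵁ U := fun w hw => by
    by_contra hwU
    obtain ⟨U₁, e₁, hyU₁, he₁⟩ := isInvertible_iff.1 hM w.1
    refine (hmem w U₁ e₁ hyU₁ he₁).1 hw ?_
    have htop : (mP hyU₁ e₁).comap (stalkMapₗ φ w.1) = ⊤ := mem_of_tmul _ fun W hyW a b => by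
      rw [Submodule.mem_comap]
      have h1 : stalkMapₗ φ w.1 (gm hyW (pairM (𝟙 _) a b)) =
          X.presheaf.germ W w.1 hyW ((_root_.ClSub.idealModι I).app W a : Γ(X, W)) • gm hyW b := by
        refine (stalkMapₗ_germ φ hyW _).trans ?_
        rw [← gm_smul]
        exact congrArg (gm hyW) (SurfInt.Stalk.act_tens _ a b)
      rw [h1]
      obtain ⟨c, hc⟩ := exists_coord (he₁.res (inf_le_right : W ⊓ U₁ ≤ U₁)) (rs M inf_le_left b)
      have hy2 : w.1 ∈ W ⊓ U₁ := ⟨hyW, hyU₁⟩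
      rw [← gm_rs (inf_le_left : W ⊓ U₁ ≤ W) hy2 b, hc, gm_smul, gm_rs, smul_smul, smul_mem_mP_iff he₁]
      exact fun hu => QAffCounit.notMem_basicOpen_of_ideal a (hsupp hwU)
        ((Scheme.mem_basicOpen _ _ w.1 hyW).2 (IsUnit.mul_iff.1 hu).1)
    have h3 := htop.ge (Submodule.mem_top (x := gm (show w.1 ∈ O from w.2) g'))
    rw [Submodule.mem_comap] at h3
    erw [stalkMapₗ_germ] at h3
    exact h3
  have hzs : z ∈ CohB1.genLocus _ s := (hmem z U e hxU he).2 htx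
  refine ⟨n, hn, s ≫ (Pow.pullbackPow O.ι L n).hom, ?_, ?_⟩
  · rw [genLocus_comp_iso]; exact hzs
  · rw [genLocus_comp_iso]
    have hU' : IsAffineOpen (O.ι ⁻¹ᵁ U) :=
      hU.preimage_of_isOpenImmersion O.ι (by rw [Scheme.Opens.opensRange_ι]; exact hUO)
    have h := isAffineOpen_genLocus_inf (PicLoc.isInvertible_pullback _ hM) s hU'
    rwa [inf_eq_left.2 hle] at h

/-- Generation by sections over the preimage of an open gives surjectivity of the counit on stalks. -/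
theorem range_counit_eq_top (G : X.Modules) (V : Y.Opens) {M : (f ⁻¹ᵁ V : Scheme.{u}).Modules}
    (ι' : M ≅ G.restrict (f ⁻¹ᵁ V).ι) (z : (f ⁻¹ᵁ V : Scheme.{u})) (h : GenAt M z) :
    LinearMap.range (stalkMapₗ ((pbAdj f).counit.app G) ((f ⁻¹ᵁ V).ι z)) = ⊤ := by
  let O := f ⁻¹ᵁ V
  have h' := GenAt.of_iso ι' h
  refine eq_top_iff.2 fun v _ => ?_
  obtain ⟨w, hw⟩ := (Modules.StalkRestrict.restrictStalkAddEquiv O.ι G z).surjective v
  have hmem : v ∈ Submodule.span (X.presheaf.stalk (O.ι z)) (Modules.StalkRestrict.restrictStalkAddEquiv O.ι G z ''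
      Set.range fun t : Γ(G.restrict O.ι, ⊤) => gm (memTop z) t) := by
    rw [← SetLike.mem_coe]
    exact (Modules.StalkRestrict.span_image_restrictStalkAddEquiv O.ι G z _).ge
      ⟨w, h'.ge Submodule.mem_top, hw⟩
  refine Submodule.span_le.2 ?_ hmem
  rintro _ ⟨_, ⟨t, rfl⟩, rfl⟩
  refine ⟨gm (M := (pb f).obj ((pf f).obj G)) (show O.ι z ∈ f ⁻¹ᵁ V from z.2)
    (unitSec f ((pf f).obj G) (rs G O.ι_image_top.ge t)), ?_⟩
  refine (stalkMapₗ_germ _ _ _).trans ?_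
  refine (congrArg (gm (M := G) (show O.ι z ∈ f ⁻¹ᵁ V from z.2)) (QAffCounit.counit_app_unitSec f G V _)).trans ?_
  exact (gm_rs (M := G) O.ι_image_top.ge z.2 _).trans
    (Modules.StalkRestrict.restrictStalkAddEquiv_germ O.ι G (memTop z) t).symm

/-- Twists by high powers of a relatively ample module have epimorphic counit. -/
theorem eventually_epi_counit [CompactSpace X] (L : X.Modules) (h : _root_.RelAmple.IsRelAmple f L)
    (F : X.Modules) (hF : Coh.IsCoh F) :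
    ∃ n₀ : ℕ, 0 < n₀ ∧ ∀ n : ℕ, n₀ ≤ n →
      Epi ((pbAdj f).counit.app (CohB1.tensorMod F (CohB1.tensorPow L n))) := by
  classical
  obtain ⟨hq, hA⟩ := (RelAmple.isRelAmple_iff f).1 h
  choose V hV hxV using fun x : X =>
    (exists_isAffineOpen_mem_and_subset (X := Y) (x := f x) (U := ⊤) (memTop _)).imp fun V hV => And.intro hV.1 hV.2.1
  obtain ⟨T, hT⟩ := isCompact_univ.elim_finite_subcover (fun x => (f ⁻¹ᵁ V x : Set X))
    (fun x => (f ⁻¹ᵁ V x).isOpen) fun x _ => Set.mem_iUnion.2 ⟨x, hxV x⟩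
  have hn : ∀ x : X, ∃ n₀ : ℕ, ∀ n, n₀ ≤ n → ∀ z, GenAt (CohB1.tensorMod ((pb (f ⁻¹ᵁ V x).ι).obj F)
      (CohB1.tensorPow ((pb (f ⁻¹ᵁ V x).ι).obj L) n)) z := fun x => by
    haveI := Ample.Pullback.quasiSeparatedSpace_of_isAmple (hA _ (hV x))
    exact eventually_genAt_twist (hA _ (hV x)) _ (Cyc.FP.Stalk.isCoh_pullback _ hF)
  choose n₀ hn₀ using hn
  refine ⟨T.sup n₀ + 1, Nat.succ_pos _, fun n hn => ?_⟩
  refine (Modules.Stalk.epi_iff_stalk_surjective _).2 fun x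
    (v : (CohB1.tensorMod F (CohB1.tensorPow L n)).presheaf.stalk x) => ?_
  obtain ⟨y, hy, hxy⟩ := Set.mem_iUnion₂.1 (hT (Set.mem_univ x))
  have hle : n₀ y ≤ n := le_trans (Finset.le_sup hy) (by omega)
  have hr := range_counit_eq_top f (CohB1.tensorMod F (CohB1.tensorPow L n)) (V y)
    (tensorIso (Iso.refl _) (Pow.pullbackPow _ L n).symm ≪≫ (pullbackTensorIso _ F _).symm ≪≫
      ((Scheme.Modules.restrictFunctorIsoPullback _).app _).symm) ⟨x, hxy⟩ (hn₀ y n hle _)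
  change LinearMap.range (stalkMapₗ _ x) = ⊤ at hr
  exact hr.ge (Submodule.mem_top (x := v))

end Groth.Agent.Lib.Ample.CounitCrit
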