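import Groth.Agent.Lib.Ample.GG
import Groth.Agent.Lib.Ample.RelAmple
import Groth.Agent.Lib.QCoh.Localizing

/-!
# Quasi-coherent modules on quasi-affine schemes are globally generated
-/

noncomputable section

universe u

open CategoryTheory CategoryTheory.Limits AlgebraicGeometry Opposite TopologicalSpace

namespace Groth.Agent.Lib.Ample.GGQAff

open TensorMod TensorMod.Dual TensorMod.Gen GenLocus Ample.GG

variable {X : Scheme.{u}}

theorem genAt [X.IsQuasiAffine] (F : X.Modules) [F.IsQuasicoherent] (x : X) : GenAt F x := by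
  obtain ⟨_, ⟨_, ⟨r, hr, rfl⟩, rfl⟩, hxr, -⟩ := (Scheme.IsQuasiAffine.isBasis_basicOpen
    X).exists_subset_of_mem_open (Set.mem_univ x) isOpen_univ
  have hspan := CohBasics.Affine.germ_span_eq_top (M := F) hr (Set.univ : Set Γ(F, X.basicOpen r))
    Submodule.span_univ hxr
  refine top_le_iff.1 (hspan ▸ Submodule.span_le.2 ?_)
  rintro _ ⟨t, -, rfl⟩
  have hl := QCoh.Localizing.localizes_of_qcqs F (U := ⊤) isCompact_univ
    isQuasiSeparated_univ r
  obtain ⟨n, g, hg⟩ := hl.ext' t
  have hu : IsUnit (X.presheaf.germ (X.basicOpen r) x hxr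
      (X.presheaf.map (homOfLE (X.basicOpen_le r)).op r)) := by
    rw [TopCat.Presheaf.germ_res_apply]
    exact (Scheme.mem_basicOpen X r x (memTop x)).1 hxr
  have h1 : gm (memTop x) g =
      X.presheaf.germ (X.basicOpen r) x hxr (X.presheaf.map (homOfLE (X.basicOpen_le r)).op r) ^ n • gm hxr t := by
    refine (gm_rs (M := F) (X.basicOpen_le r) hxr g).symm.trans ?_
    refine (congrArg (gm hxr) hg).trans ?_
    rw [gm_smul, map_pow]
  refine SetLike.mem_coe.2 ((Submodule.smul_mem_iff_of_isUnit _ (hu.pow n)).1 ?_)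
  exact h1 ▸ Submodule.subset_span ⟨g, rfl⟩

theorem isGloballyGenerated [X.IsQuasiAffine] (F : X.Modules) [F.IsQuasicoherent] :
    Curv2.IsGloballyGenerated F :=
  isGloballyGenerated_of_genAt (genAt F)

end Groth.Agent.Lib.Ample.GGQAff
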