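import Groth.Agent.Lib.Ample.QAffCounit
import Groth.Agent.Lib.SurfInt.Stalk

/-!
# Ampleness from global generation of twisted ideals of finite type
-/

noncomputable section

universe u

open CategoryTheory CategoryTheory.Limits AlgebraicGeometry Opposite TopologicalSpace

namespace Groth.Agent.Lib.Ample.IdealCrit

open TensorMod TensorMod.Basic TensorMod.Free TensorMod.Dual TensorMod.Gen GenLocus Modules.StalkModule GG Ample.GenLocus Ample.Pow Ample.Extend Ample.Basis

variable {X : Scheme.{u}} {N : X.Modules}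

/-- The multiples of a germ by the maximal ideal. -/
def mP {U : X.Opens} {x : X} (hx : x ∈ U) (e : Γ(N, U)) : Submodule (X.presheaf.stalk x) (N.presheaf.stalk x) :=
  Submodule.map (LinearMap.toSpanSingleton _ _ (gm hx e)) (IsLocalRing.maximalIdeal (X.presheaf.stalk x))

theorem gm_gen_ne_zero {U : X.Opens} {e : Γ(N, U)} (he : IsGen N U e) {x : X} (hx : x ∈ U) : gm hx e ≠ 0 := by
  intro hzero
  have h0 : gm hx (0 : Γ(N, U)) = 0 := map_zero _
  obtain ⟨V, hxV, i, j, e'⟩ := TopCat.Presheaf.germ_eq N.presheaf x hx hx e 0 (hzero.trans h0.symm)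
  have h2 : (fun a : Γ(X, V) => a • rs N i.le e) 1 = (fun a : Γ(X, V) => a • rs N i.le e) 0 := by
    simp only [zero_smul, one_smul]
    exact e'.trans (map_zero _)
  have h3 : IsUnit (X.presheaf.germ V x hxV 0) := by
    rw [← (he V i.le).1 h2, map_one]; exact isUnit_one
  rw [map_zero] at h3
  exact zero_ne_one (isUnit_zero_iff.1 h3)

theorem smul_mem_mP_iff {U : X.Opens} {e : Γ(N, U)} (he : IsGen N U e) {x : X} (hx : x ∈ U)
    (c : X.presheaf.stalk x) : c • gm hx e ∈ mP hx e ↔ ¬IsUnit c := by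
  refine ⟨fun h hu => ?_, fun h => ⟨c, (IsLocalRing.mem_maximalIdeal _).2 h, rfl⟩⟩
  obtain ⟨c', hc', hce⟩ := h
  rw [LinearMap.toSpanSingleton_apply] at hce
  have hcc : IsUnit (c - c') := by
    by_contra hd
    have := (IsLocalRing.maximalIdeal (X.presheaf.stalk x)).add_mem ((IsLocalRing.mem_maximalIdeal _).2 hd) hc'
    rw [sub_add_cancel] at this
    exact (IsLocalRing.mem_maximalIdeal _).1 this hu
  exact gm_gen_ne_zero he hx ((IsUnit.smul_eq_zero hcc).1 (by rw [sub_smul, hce, sub_self]))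

theorem mem_genLocus_iff_notMem_mP (hN : PicF.IsInvertible N) (s : Coh.structureModule X ⟶ N) {U : X.Opens}
    {e : Γ(N, U)} (he : IsGen N U e) {x : X} (hx : x ∈ U) :
    x ∈ CohB1.genLocus N s ↔ gm (memTop x) (sv s ⊤) ∉ mP hx e := by
  obtain ⟨a, ha⟩ := exists_coord he (sv s U)
  have h := genLocus_inf_eq he s ha
  have hg : gm (memTop x) (sv s ⊤) = X.presheaf.germ U x hx a • gm hx e := by
    rw [← gm_smul, ← ha, ← rs_sv s (le_top : U ≤ ⊤), gm_rs]
  rw [hg, smul_mem_mP_iff he hx, not_not, ← Scheme.mem_basicOpen, ← h]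
  exact ⟨fun hs => ⟨hs, hx⟩, fun hs => hs.1⟩

theorem isAmple [CompactSpace X] [QuasiSeparatedSpace X] (L : X.Modules) (hL : PicF.IsInvertible L)
    (h : ∀ I : X.IdealSheafData, Lim.IdealExt.IsFG I →
      ∃ n : ℕ, Curv2.IsGloballyGenerated (CohB1.tensorMod (_root_.ClSub.idealMod I) (CohB1.tensorPow L (n + 1)))) :
    CohB1.IsAmple L := by
  refine Pow.isAmple_iff.2 ⟨hL, inferInstance, fun x => ?_⟩
  obtain ⟨U₀, e₀, hxU₀, he₀⟩ := isInvertible_iff.1 hL x
  obtain ⟨U, hU, hxU, hUU₀⟩ := exists_isAffineOpen_mem_and_subset (X := X) (x := x) (U := U₀) hxU₀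
  let Z : TopologicalSpace.Closeds X := ⟨(U : Set X)ᶜ, U.isOpen.isClosed_compl⟩
  have hIV : (Scheme.IdealSheafData.vanishingIdeal Z).ideal ⟨U, hU⟩ = ⊤ := by
    rw [Scheme.IdealSheafData.vanishingIdeal_ideal]
    have he : hU.fromSpec ⁻¹' (Z : Set X) = ∅ := Set.eq_empty_iff_forall_notMem.2 fun p hp => hp (by
      have h := Set.mem_range_self (f := hU.fromSpec) p
      rwa [hU.range_fromSpec] at h)
    exact (congrArg PrimeSpectrum.vanishingIdeal he).trans PrimeSpectrum.vanishingIdeal_empty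
  obtain ⟨I, hIle, hI, hIU⟩ := Lim.IdealExt.exists_isFG_le _ ⟨U, hU⟩ ⊤ ⟨{1}, by simp⟩ hIV.ge
  have hsupp : Z ≤ I.support := Scheme.IdealSheafData.le_support_iff_le_vanishingIdeal.2 hIle
  obtain ⟨n, hgg⟩ := h I hI
  let M := CohB1.tensorPow L (n + 1)
  have hM : PicF.IsInvertible M := Invertible.isInvertible_tensorPow hL _
  let φ := SurfInt.Stalk.act (_root_.ClSub.idealModι I) M
  let e : Γ(M, U) := Extend.powSec (rs L hUU₀ e₀) (n + 1)
  have he : IsGen M U e := Extend.isGen_powSec (he₀.res hUU₀) (n + 1)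
  obtain ⟨m₁, hm₁⟩ := (ClSub.Sections.mem_range_idealModι_app_affine_iff I ⟨U, hU⟩ 1).2
    (hIU ▸ Submodule.mem_top)
  -- a global section generating at `x`
  obtain ⟨g, hg⟩ : ∃ g : Γ(CohB1.tensorMod (_root_.ClSub.idealMod I) M, ⊤),
      gm (memTop x) (φ.app ⊤ g) ∉ mP hxU e := by
    by_contra hno
    push_neg at hno
    have hle : Groth.Agent.H34.GlobGen.Gl _ x ≤ (mP hxU e).comap (stalkMapₗ φ x) := by
      rw [Groth.Agent.H34.GlobGen.Gl, Submodule.span_le]
      rintro _ ⟨g, rfl⟩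
      rw [SetLike.mem_coe, Submodule.mem_comap]
      erw [stalkMapₗ_germ]
      exact hno g
    have h1 := hle ((Groth.Agent.H34.GlobGen.gl_eq_top_of_gg hgg x).ge
      (Submodule.mem_top (x := gm hxU (Modules.TensorSec.tens m₁ e))))
    rw [Submodule.mem_comap] at h1
    have h2 : stalkMapₗ φ x (gm hxU (Modules.TensorSec.tens m₁ e)) = (1 : X.presheaf.stalk x) • gm hxU e := by
      refine (stalkMapₗ_germ φ hxU _).trans ?_
      rw [SurfInt.Stalk.act_tens, hm₁, one_smul, one_smul]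
    rw [h2, smul_mem_mP_iff he] at h1
    exact h1 isUnit_one
  obtain ⟨s, hs⟩ := exists_hom_of_sec (L := M) (φ.app ⊤ g)
  refine ⟨n + 1, n.succ_pos, s, (mem_genLocus_iff_notMem_mP hM s he hxU).2 (hs ▸ hg), ?_⟩
  -- the locus lies in the affine open
  have hle : CohB1.genLocus M s ≤ U := fun y hy => by
    by_contra hyU
    obtain ⟨U₁, e₁, hyU₁, he₁⟩ := isInvertible_iff.1 hM y
    refine (mem_genLocus_iff_notMem_mP hM s he₁ hyU₁).1 hy ?_
    rw [hs]
    have htop : (mP hyU₁ e₁).comap (stalkMapₗ φ y) = ⊤ := mem_of_tmul _ fun W hyW a b => by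
      rw [Submodule.mem_comap]
      have h1 : stalkMapₗ φ y (gm hyW (pairM (𝟙 _) a b)) =
          X.presheaf.germ W y hyW ((_root_.ClSub.idealModι I).app W a : Γ(X, W)) • gm hyW b := by
        refine (stalkMapₗ_germ φ hyW _).trans ?_
        rw [← gm_smul]
        exact congrArg (gm hyW) (SurfInt.Stalk.act_tens _ a b)
      rw [h1]
      obtain ⟨c, hc⟩ := exists_coord (he₁.res (inf_le_right : W ⊓ U₁ ≤ U₁)) (rs M inf_le_left b)
      have hy2 : y ∈ W ⊓ U₁ := ⟨hyW, hyU₁⟩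
      rw [← gm_rs (inf_le_left : W ⊓ U₁ ≤ W) hy2 b, hc, gm_smul, gm_rs, smul_smul, smul_mem_mP_iff he₁]
      exact fun hu => QAffCounit.notMem_basicOpen_of_ideal a (hsupp hyU)
        ((Scheme.mem_basicOpen _ _ y hyW).2 (IsUnit.mul_iff.1 hu).1)
    have h3 := htop.ge (Submodule.mem_top (x := gm (memTop y) g))
    rw [Submodule.mem_comap] at h3
    erw [stalkMapₗ_germ] at h3
    exact h3
  have h := isAffineOpen_genLocus_inf hM s hU
  rwa [inf_eq_left.2 hle] at h

end Groth.Agent.Lib.Ample.IdealCrit
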