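import Groth.Agent.Lib.Ample.CounitGen
import Groth.Agent.Lib.Ample.GGQAff
import Groth.Agent.Lib.Ample.QAffCrit
import Groth.Agent.Lib.NormAmple.Restrict

/-!
# Quasi-affine morphisms and the counit
-/

noncomputable section

universe u

open CategoryTheory CategoryTheory.Limits AlgebraicGeometry Opposite TopologicalSpace

namespace Groth.Agent.Lib.Ample.QAffCounit

open TensorMod TensorMod.Basic TensorMod.Dual TensorMod.Gen TensorMod.Pullback GenLocus Modules.StalkModule

variable {X Y : Scheme.{u}} (f : X ⟶ Y)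

theorem counit_app_unitSec (F : X.Modules) (V : Y.Opens) (g : Γ(F, f ⁻¹ᵁ V)) :
    ((pbAdj f).counit.app F).app (f ⁻¹ᵁ V) (unitSec f ((pf f).obj F) g) = g := by
  have h := congrArg (fun t => t.app V g) ((pbAdj f).right_triangle_components F)
  exact h

theorem epi_counit (hf : Mor2.IsQuasiAffine f) (F : X.Modules) [F.IsQuasicoherent] :
    Epi ((pbAdj f).counit.app F) := by
  refine (Modules.Stalk.epi_iff_stalk_surjective _).2 fun x (v : F.presheaf.stalk x) => ?_
  suffices LinearMap.range (stalkMapₗ ((pbAdj f).counit.app F) x) = ⊤ by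
    exact this.ge (Submodule.mem_top (x := v))
  obtain ⟨V, hV, hyV, -⟩ := exists_isAffineOpen_mem_and_subset (X := Y) (x := f x) (U := ⊤) (GG.memTop _)
  let O := f ⁻¹ᵁ V
  haveI : Scheme.IsQuasiAffine (O : Scheme.{u}) := hf.2 V hV
  obtain ⟨_, ⟨_, ⟨r, hr, rfl⟩, rfl⟩, hxr, -⟩ := (Scheme.IsQuasiAffine.isBasis_basicOpen
    (O : Scheme.{u})).exists_subset_of_mem_open (Set.mem_univ (⟨x, hyV⟩ : O)) isOpen_univ
  let r' : Γ(X, O) := O.topIso.hom r
  have hB : O.ι ''ᵁ (O : Scheme.{u}).basicOpen r = X.basicOpen r' := by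
    rw [Scheme.image_basicOpen]
    show X.basicOpen _ = X.basicOpen (O.topIso.hom r)
    rw [Scheme.Opens.ι_appIso, Scheme.Opens.topIso_hom]
    refine Eq.symm ((Scheme.basicOpen_res X r _).trans (inf_eq_right.2 ((X.basicOpen_le r).trans ?_)))
    exact le_of_eq (Scheme.Opens.ι_image_top O)
  have hxr' : x ∈ X.basicOpen r' := hB.le ⟨⟨x, hyV⟩, hxr, rfl⟩
  have hr' : IsAffineOpen (X.basicOpen r') := hB ▸ hr.image_of_isOpenImmersion O.ι
  have hspan := CohBasics.Affine.germ_span_eq_top (M := F) hr' (Set.univ : Set Γ(F, X.basicOpen r'))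
    Submodule.span_univ hxr'
  refine top_le_iff.1 (hspan ▸ Submodule.span_le.2 ?_)
  rintro _ ⟨t, -, rfl⟩
  have hOc : IsCompact (O : Set X) := isCompact_iff_compactSpace.2 (inferInstanceAs (CompactSpace (O : Scheme.{u})))
  have hOq : IsQuasiSeparated (O : Set X) :=
    (isQuasiSeparated_iff_quasiSeparatedSpace _ O.isOpen).2 (inferInstanceAs (QuasiSeparatedSpace (O : Scheme.{u})))
  obtain ⟨n, g, hg⟩ := (QCoh.Localizing.localizes_of_qcqs F hOc hOq r').ext' t
  have hu : IsUnit (X.presheaf.germ (X.basicOpen r') x hxr'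
      (X.presheaf.map (homOfLE (X.basicOpen_le r')).op r')) := by
    rw [TopCat.Presheaf.germ_res_apply]
    exact (Scheme.mem_basicOpen X r' x hyV).1 hxr'
  have h1 : GG.gm (M := F) hyV g =
      X.presheaf.germ (X.basicOpen r') x hxr' (X.presheaf.map (homOfLE (X.basicOpen_le r')).op r') ^ n • GG.gm hxr' t := by
    refine (GG.gm_rs (M := F) (X.basicOpen_le r') hxr' g).symm.trans ((congrArg (GG.gm hxr') hg).trans ?_)
    rw [GG.gm_smul, map_pow]
  refine SetLike.mem_coe.2 ((Submodule.smul_mem_iff_of_isUnit _ (hu.pow n)).1 (h1 ▸ ?_))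
  exact ⟨GG.gm (M := (pb f).obj ((pf f).obj F)) hyV (unitSec f ((pf f).obj F) g),
    (stalkMapₗ_germ _ (show x ∈ f ⁻¹ᵁ V from hyV) _).trans (congrArg (GG.gm (M := F) hyV) (counit_app_unitSec f F V g))⟩

theorem notMem_basicOpen_of_ideal {I : X.IdealSheafData} {W : X.Opens} (m : Γ(_root_.ClSub.idealMod I, W)) {y : X}
    (hy : y ∈ (I.supportSet : Set X)) : y ∉ X.basicOpen ((_root_.ClSub.idealModι I).app W m : Γ(X, W)) := fun hyb => by
  obtain ⟨U, hU, hyU, hUW⟩ := exists_isAffineOpen_mem_and_subset (X := X) (x := y) (U := W) (X.basicOpen_le _ hyb)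
  have hmem : X.presheaf.map (homOfLE hUW).op ((_root_.ClSub.idealModι I).app W m : Γ(X, W)) ∈ I.ideal ⟨U, hU⟩ :=
    (ClSub.Sections.mem_range_idealModι_app_affine_iff I ⟨U, hU⟩ _).1
      ⟨(_root_.ClSub.idealMod I).presheaf.map (homOfLE hUW).op m,
        ConcreteCategory.congr_hom ((_root_.ClSub.idealModι I).mapPresheaf.naturality (homOfLE hUW).op) m⟩
  have h2 := (Scheme.IdealSheafData.mem_supportSet_iff_of_mem (I := I) (U := ⟨U, hU⟩) hyU).1 hy
  have h3 : y ∈ X.zeroLocus (U := U) {X.presheaf.map (homOfLE hUW).op ((_root_.ClSub.idealModι I).app W m : Γ(X, W))} :=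
    X.zeroLocus_mono (Set.singleton_subset_iff.2 hmem) h2
  rw [Scheme.zeroLocus_singleton, Scheme.basicOpen_res] at h3
  exact h3 ⟨hyU, hyb⟩

theorem exists_ideal_section_unit {I : X.IdealSheafData} (h : Epi ((pbAdj f).counit.app (_root_.ClSub.idealMod I)))
    {U : X.Opens} {x : X} (hxU : x ∈ U) (m₁ : Γ(_root_.ClSub.idealMod I, U))
    (hm₁ : (_root_.ClSub.idealModι I).app U m₁ = one X U) :
    ∃ (W : Y.Opens) (m : Γ(_root_.ClSub.idealMod I, f ⁻¹ᵁ W)), f x ∈ W ∧
      x ∈ X.basicOpen ((_root_.ClSub.idealModι I).app (f ⁻¹ᵁ W) m : Γ(X, f ⁻¹ᵁ W)) := by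
  by_contra hcon
  push Not at hcon
  let i := X.fromSpecResidueField x
  let φ := _root_.ClSub.idealModι I ≫ (pbAdj i).unit.app (Coh.structureModule X)
  have hφ : φ = 0 := CounitGen.hom_eq_zero_of_counit f h φ fun W m => by
    have hz : i.app (f ⁻¹ᵁ W) ((_root_.ClSub.idealModι I).app (f ⁻¹ᵁ W) m : Γ(X, f ⁻¹ᵁ W)) = 0 := by
      rw [← AlgebraicGeometry.basicOpen_eq_bot_iff, ← Scheme.preimage_basicOpen]
      ext z
      simp only [Opens.coe_bot, Set.mem_empty_iff_false, iff_false]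
      intro hz
      have h1 : i z ∈ ({x} : Set X) := Scheme.range_fromSpecResidueField x ▸ Set.mem_range_self z
      rw [Set.mem_singleton_iff] at h1
      by_cases hxW : f x ∈ W
      · exact hcon W m hxW (h1 ▸ hz)
      · exact hxW (show x ∈ f ⁻¹ᵁ W from h1 ▸ X.basicOpen_le _ hz)
    let a : Γ(X, f ⁻¹ᵁ W) := (_root_.ClSub.idealModι I).app (f ⁻¹ᵁ W) m
    change unitSec i (Coh.structureModule X) a = _
    rw [show (a : Γ(Coh.structureModule X, f ⁻¹ᵁ W)) = a • one X (f ⁻¹ᵁ W) from (mul_one a).symm, unitSec_smul,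
      show i.app (f ⁻¹ᵁ W) a = 0 from hz, zero_smul]
    rfl
  have h1 := congrArg (fun t => t.app U m₁) hφ
  change unitSec i (Coh.structureModule X) ((_root_.ClSub.idealModι I).app U m₁) = 0 at h1
  rw [hm₁] at h1
  have hg := (isGen_unitSec_one i U) _ le_rfl
  have h01 : (1 : Γ(Spec (X.residueField x), i ⁻¹ᵁ U)) = 0 := hg.1 (by
    simp only [rs_self, one_smul, zero_smul]
    exact h1)
  have hz : IsLocalRing.closedPoint (X.residueField x) ∈ i ⁻¹ᵁ U := by
    show i (IsLocalRing.closedPoint (X.residueField x)) ∈ U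
    rw [show i (IsLocalRing.closedPoint (X.residueField x)) = x from Scheme.fromSpecResidueField_apply _ _]
    exact hxU
  have h2 := congrArg ((Spec (X.residueField x)).presheaf.germ (i ⁻¹ᵁ U) _ hz) h01
  rw [map_one, map_zero] at h2
  exact one_ne_zero h2

theorem isQuasiAffine [QuasiCompact f] [IsSeparated f]
    (h : ∀ F : X.Modules, Coh.IsQCoh F → Epi ((pbAdj f).counit.app F)) : Mor2.IsQuasiAffine f := by
  refine ⟨inferInstance, fun V hV => ?_⟩
  let O := f ⁻¹ᵁ V
  haveI : IsAffine (V : Scheme.{u}) := hV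
  haveI : CompactSpace (O : Scheme.{u}) := QuasiCompact.compactSpace_of_compactSpace (f ∣_ V)
  haveI : QuasiSeparatedSpace (O : Scheme.{u}) := quasiSeparatedSpace_of_quasiSeparated (f ∣_ V)
  refine Scheme.IsQuasiAffine.of_forall_exists_mem_basicOpen _ fun z => ?_
  obtain ⟨U, hU, hxU, hUO'⟩ := exists_isAffineOpen_mem_and_subset (X := X) (x := z.1) (U := O) z.2
  have hUO : U ≤ O := hUO'
  let Z : TopologicalSpace.Closeds X := ⟨(U : Set X)ᶜ, U.isOpen.isClosed_compl⟩
  let I := Scheme.IdealSheafData.vanishingIdeal Z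
  have hIU : I.ideal ⟨U, hU⟩ = ⊤ := by
    rw [Scheme.IdealSheafData.vanishingIdeal_ideal]
    have he : hU.fromSpec ⁻¹' (Z : Set X) = ∅ := Set.eq_empty_iff_forall_notMem.2 fun p hp => hp (by
      have h := Set.mem_range_self (f := hU.fromSpec) p
      rwa [hU.range_fromSpec] at h)
    exact (congrArg PrimeSpectrum.vanishingIdeal he).trans PrimeSpectrum.vanishingIdeal_empty
  obtain ⟨m₁, hm₁⟩ := (ClSub.Sections.mem_range_idealModι_app_affine_iff I ⟨U, hU⟩ 1).2 (hIU ▸ Submodule.mem_top)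
  obtain ⟨W, m, hxW, hxa⟩ := exists_ideal_section_unit f (h _ (QAffCrit.isQCoh_idealMod I)) hxU m₁ hm₁
  let a : Γ(X, f ⁻¹ᵁ W) := (_root_.ClSub.idealModι I).app (f ⁻¹ᵁ W) m
  have haU : X.basicOpen a ≤ U := fun y hy => by
    by_contra hyU
    have hs : Z ≤ I.support := Scheme.IdealSheafData.le_support_iff_le_vanishingIdeal.2 le_rfl
    exact notMem_basicOpen_of_ideal m (hs hyU) hy
  obtain ⟨g, hgW, hxg⟩ := hV.exists_basicOpen_le (V := W) ⟨_, hxW⟩ z.2
  let g' : Γ(X, O) := f.app V g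
  have hg' : X.basicOpen g' = f ⁻¹ᵁ Y.basicOpen g := (Scheme.preimage_basicOpen f g).symm
  have hgW' : X.basicOpen g' ≤ f ⁻¹ᵁ W := hg'.le.trans (f.preimage_mono hgW)
  have hOc : IsCompact (O : Set X) := isCompact_iff_compactSpace.2 ‹CompactSpace (O : Scheme.{u})›
  have hOq : IsQuasiSeparated (O : Set X) :=
    (isQuasiSeparated_iff_quasiSeparatedSpace _ O.isOpen).2 ‹QuasiSeparatedSpace (O : Scheme.{u})›
  have := isLocalization_basicOpen_of_qcqs hOc hOq g'
  obtain ⟨⟨b, _, n, rfl⟩, hb⟩ := IsLocalization.surj (Submonoid.powers g')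
    (X.presheaf.map (homOfLE hgW').op a)
  have hb' := congrArg X.basicOpen hb
  rw [RingHom.algebraMap_toAlgebra, map_pow, Scheme.basicOpen_mul] at hb'
  simp only [Scheme.basicOpen_res] at hb'
  have hu : X.basicOpen ((X.presheaf.map (homOfLE (X.basicOpen_le g')).op g') ^ n) = X.basicOpen g' :=
    Scheme.basicOpen_of_isUnit _ ((X.toRingedSpace.isUnit_res_basicOpen g').pow n)
  erw [hu] at hb'
  let c : Γ(X, O) := g' * b
  have hc : X.basicOpen c = X.basicOpen g' ⊓ X.basicOpen a := by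
    rw [Scheme.basicOpen_mul]
    rw [inf_comm, ← inf_assoc, inf_idem] at hb'
    rw [inf_comm (X.basicOpen g') (X.basicOpen a)]
    calc X.basicOpen g' ⊓ X.basicOpen b = X.basicOpen g' ⊓ X.basicOpen b := rfl
      _ = X.basicOpen a ⊓ X.basicOpen g' := by rw [← hb', inf_comm]
  have hcU : X.basicOpen c ≤ U := hc.le.trans (inf_le_right.trans haU)
  refine ⟨O.topIso.inv c, ?_, ?_⟩
  · have he : O.ι ''ᵁ (O : Scheme.{u}).basicOpen (O.topIso.inv c) = X.basicOpen c := by
      rw [Scheme.image_basicOpen]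
      rw [Scheme.Opens.ι_appIso, Scheme.Opens.topIso_inv]
      exact (Scheme.basicOpen_res_eq X c _)
    rw [← O.ι.isAffineOpen_iff_of_isOpenImmersion, he]
    have hce : X.basicOpen c = X.basicOpen (X.presheaf.map (homOfLE hUO).op c) := by
      rw [Scheme.basicOpen_res, inf_eq_right.2 hcU]
    rw [hce]
    exact hU.basicOpen _
  · refine (NormAmple.Restrict.mem_basicOpen_opens_iff O (O.topIso.inv c) z).2 ?_
    rw [Scheme.Opens.topIso_inv]
    exact (Scheme.basicOpen_res_eq X c _).ge (hc.ge ⟨hg'.ge hxg, hxa⟩)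

end Groth.Agent.Lib.Ample.QAffCounit
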